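import Groth.Agent.Lib.ConsH13.PairInd
import Groth.Agent.Lib.LimH13.Iso
import Groth.Agent.Lib.QA11.Basic
import Groth.Agent.S2579
import Groth.Agent.S2580
import Groth.Agent.S2581
import Groth.Agent.S2582
import Groth.Agent.S2583
import Groth.Agent.S2589
import Groth.Agent.S2590
import Groth.Agent.S2592
import Groth.Agent.S9187
import Groth.Agent.S9189
import Groth.Agent.S9190

/-!
# Properties of morphisms descending along limits
-/

universe u

open CategoryTheory CategoryTheory.Limits AlgebraicGeometry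

set_option linter.style.haveILetI false
set_option backward.isDefEq.respectTransparency false

namespace Groth.Agent.ConsH13

theorem spreads_mono : Spreads (MorphismProperty.monomorphisms Scheme.{u}) := by
  intro I _ _ D c hc _ i₀ _ _ X₀ Y₀ f₀ g₀ _ _ _ _ _ _ X Y f g qY qX hY hX hf
  haveI : Mono f := hf
  exact S2579.result D c hc i₀ f₀ g₀ f g qY qX hY hX

theorem spreads_isOpenImmersion : Spreads.{u} @IsOpenImmersion := by
  intro I _ _ D c hc _ i₀ _ _ X₀ Y₀ f₀ g₀ _ _ _ _ _ _ X Y f g qY qX hY hX hf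
  haveI : IsOpenImmersion f := hf
  exact S2580.result D c hc i₀ f₀ g₀ f g qY qX hY hX

theorem spreads_surjective : Spreads.{u} @Surjective := by
  intro I _ _ D c hc _ i₀ _ _ X₀ Y₀ f₀ g₀ _ _ _ _ _ _ X Y f g qY qX hY hX hf
  haveI : Surjective f := hf
  exact S2581.result D c hc i₀ f₀ g₀ f g qY qX hY hX

theorem spreads_isAffineHom : Spreads.{u} @IsAffineHom := by
  intro I _ _ D c hc _ i₀ _ _ X₀ Y₀ f₀ g₀ _ _ _ _ _ _ X Y f g qY qX hY hX hf
  haveI : IsAffineHom f := hf
  exact S2582.result D c hc i₀ f₀ g₀ f g qY qX hY hX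

theorem spreads_isImmersion : Spreads.{u} @IsImmersion := by
  intro I _ _ D c hc _ i₀ _ _ X₀ Y₀ f₀ g₀ _ _ _ _ _ _ X Y f g qY qX hY hX hf
  haveI : IsImmersion f := hf
  exact S2589.result D c hc i₀ f₀ g₀ f g qY qX hY hX

theorem spreads_universallyInjective : Spreads.{u} @UniversallyInjective := by
  intro I _ _ D c hc _ i₀ _ _ X₀ Y₀ f₀ g₀ _ _ _ _ _ _ X Y f g qY qX hY hX hf
  haveI : UniversallyInjective f := hf
  exact S2590.result D c hc i₀ f₀ g₀ f g qY qX hY hX

/-- Quasi-affine morphisms as a property of morphisms. -/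
def quasiAffineProp : MorphismProperty Scheme.{u} := fun _ _ f => MoreMor.IsQuasiAffineHom f

instance : (quasiAffineProp.{u}).IsStableUnderBaseChange :=
  haveI : (quasiAffineProp.{u}).RespectsIso :=
    { precomp := fun {X Y Z} i hi f hf => by
        haveI : IsIso i := hi
        exact QA11.comp ⟨inferInstance, fun V hV => by
          haveI : IsAffine (i ⁻¹ᵁ V : Scheme.{u}) := hV.preimage i
          infer_instance⟩ hf
      postcomp := fun {X Y Z} i hi f hf => by
        haveI : IsIso i := hi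
        exact QA11.comp hf ⟨inferInstance, fun V hV => by
          haveI : IsAffine (i ⁻¹ᵁ V : Scheme.{u}) := hV.preimage i
          infer_instance⟩ }
  MorphismProperty.IsStableUnderBaseChange.mk' fun _ _ _ f g _ h => by
    rw [← MorphismProperty.cancel_left_of_respectsIso quasiAffineProp (pullbackSymmetry f g).inv,
      pullbackSymmetry_inv_comp_fst]
    exact QA11.baseChange h f

theorem spreads_quasiAffine : Spreads (quasiAffineProp.{u}) := by
  intro I _ _ D c hc _ i₀ _ _ X₀ Y₀ f₀ g₀ _ _ _ _ _ _ X Y f g qY qX hY hX hf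
  exact S2592.result D c hc i₀ f₀ g₀ f g qY qX hY hX hf

theorem spreads_isFinite : Spreads.{u} @IsFinite := by
  intro I _ _ D c hc _ i₀ _ _ X₀ Y₀ f₀ g₀ _ _ _ _ _ _ X Y f g qY qX hY hX hf
  haveI : IsFinite f := hf
  haveI : CompactSpace Y₀ := Descend.compactSpace_stage g₀
  haveI : QuasiSeparatedSpace Y₀ := Descend.quasiSeparatedSpace_stage g₀
  haveI : CompactSpace X₀ := Descend.compactSpace_stage (f₀ ≫ g₀)
  haveI : QuasiSeparatedSpace X₀ := Descend.quasiSeparatedSpace_stage (f₀ ≫ g₀)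
  haveI : LocallyOfFiniteType f₀ := locallyOfFiniteType_of_comp f₀ g₀
  exact S9187.result D c hc i₀ f₀ g₀ f g qY qX hY hX

theorem spreads_isClosedImmersion : Spreads.{u} @IsClosedImmersion := by
  intro I _ _ D c hc _ i₀ _ _ X₀ Y₀ f₀ g₀ _ _ _ _ _ _ X Y f g qY qX hY hX hf
  haveI : IsClosedImmersion f := hf
  haveI : CompactSpace Y₀ := Descend.compactSpace_stage g₀
  haveI : QuasiSeparatedSpace Y₀ := Descend.quasiSeparatedSpace_stage g₀
  haveI : CompactSpace X₀ := Descend.compactSpace_stage (f₀ ≫ g₀)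
  haveI : QuasiSeparatedSpace X₀ := Descend.quasiSeparatedSpace_stage (f₀ ≫ g₀)
  haveI : LocallyOfFiniteType f₀ := locallyOfFiniteType_of_comp f₀ g₀
  exact S9189.result D c hc i₀ f₀ g₀ f g qY qX hY hX

theorem spreads_isSeparated : Spreads.{u} @IsSeparated := by
  intro I _ _ D c hc _ i₀ _ _ X₀ Y₀ f₀ g₀ _ _ _ _ _ _ X Y f g qY qX hY hX hf
  haveI : IsSeparated f := hf
  haveI : CompactSpace Y₀ := Descend.compactSpace_stage g₀
  haveI : QuasiSeparatedSpace Y₀ := Descend.quasiSeparatedSpace_stage g₀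
  haveI : CompactSpace X₀ := Descend.compactSpace_stage (f₀ ≫ g₀)
  haveI : QuasiSeparatedSpace X₀ := Descend.quasiSeparatedSpace_stage (f₀ ≫ g₀)
  exact S9190.result D c hc i₀ f₀ g₀ f g qY qX hY hX

theorem spreads_isomorphisms : Spreads (MorphismProperty.isomorphisms Scheme.{u}) := by
  intro I _ _ D c hc _ i₀ _ _ X₀ Y₀ f₀ g₀ _ _ _ _ _ _ X Y f g qY qX hY hX hf
  haveI : CompactSpace Y₀ := Descend.compactSpace_stage g₀
  haveI : QuasiSeparatedSpace Y₀ := Descend.quasiSeparatedSpace_stage g₀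
  haveI : QuasiCompact f₀ := QuasiCompact.of_comp f₀ g₀
  haveI : QuasiSeparated f₀ := QuasiSeparated.of_comp f₀ g₀
  haveI : LocallyOfFinitePresentation f₀ := SchBasic.locallyOfFinitePresentation_of_comp f₀ g₀
  refine Descend.exists_stage (MorphismProperty.isomorphisms Scheme.{u})
    (MorphismProperty.isomorphisms Scheme.{u}) hc f₀ g₀ f g qY qX hY hX hf
    fun E t e _ q P p r he hq hP hr => ?_
  haveI : IsIso r := hr
  exact LimH13.exists_isIso (f := f₀) he hq hP

/-- Quasi-finite morphisms. -/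
def quasiFiniteProp : MorphismProperty Scheme.{u} :=
  @LocallyOfFiniteType ⊓ (@QuasiCompact ⊓ @LocallyQuasiFinite)

instance : (quasiFiniteProp.{u}).IsStableUnderBaseChange where
  of_isPullback sq h := ⟨MorphismProperty.of_isPullback sq h.1, MorphismProperty.of_isPullback sq h.2.1,
    haveI := h.1
    haveI := h.2.2
    MorphismProperty.of_isPullback (P := @LocallyQuasiFinite) sq h.2.2⟩

theorem spreads_quasiFinite : Spreads (quasiFiniteProp.{u}) := by
  intro I _ _ D c hc _ i₀ _ _ X₀ Y₀ f₀ g₀ _ _ _ _ _ _ X Y f g qY qX hY hX hf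
  haveI : LocallyQuasiFinite f := hf.2.2
  haveI : CompactSpace Y₀ := Descend.compactSpace_stage g₀
  haveI : QuasiSeparatedSpace Y₀ := Descend.quasiSeparatedSpace_stage g₀
  haveI : QuasiCompact f₀ := QuasiCompact.of_comp f₀ g₀
  haveI : LocallyOfFiniteType f₀ := locallyOfFiniteType_of_comp f₀ g₀
  obtain ⟨i, φ, Xi, Yi, fi, gi, pY, pX, h1, h2, h3⟩ := S2583.result D c hc i₀ f₀ g₀ f g qY qX hY hX
  exact ⟨i, φ, Xi, Yi, fi, gi, pY, pX, h1, h2, MorphismProperty.of_isPullback h2 inferInstance,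
    MorphismProperty.of_isPullback h2 inferInstance, h3⟩

end Groth.Agent.ConsH13
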