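import Groth.Prelude.Def_EGA4Misc
import Groth.Agent.Lib.FibDim4.GenericScheme
import Groth.Agent.Lib.FibDim4.GenericFP
import Groth.Agent.Lib.RelAmple18.Generated
import Groth.Agent.Lib.ConsH13.Spreads
import Groth.Agent.Lib.FpqcDesc.Basic

/-!
# Examples of constructible properties
-/

universe u

open CategoryTheory CategoryTheory.Limits AlgebraicGeometry Topology

set_option linter.style.haveILetI false
set_option backward.isDefEq.respectTransparency false

namespace Groth.Agent.ConsH13

/-- The canonical map from the spectrum of the residue field of a one-point integral scheme. -/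
lemma isIso_fromSpecResidueField_of_subsingleton (T : Scheme.{u}) [IsIntegral T] [Subsingleton T] (t : T) :
    IsIso (T.fromSpecResidueField t) := by
  haveI : Surjective (T.fromSpecResidueField t) :=
    ⟨fun x => ⟨Classical.arbitrary (PrimeSpectrum _), Subsingleton.elim _ _⟩⟩
  haveI : IsClosedImmersion (T.fromSpecResidueField t) :=
    IsClosedImmersion.of_isPreimmersion _ (by
      rw [show Set.range (T.fromSpecResidueField t) = Set.univ from (T.fromSpecResidueField t).surjective.range_eq]
      exact isClosed_univ)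
  exact isIso_of_isClosedImmersion_of_surjective _

/-- A morphism of spectra of fields is faithfully flat and quasi-compact. -/
lemma fpqc_of_subsingleton {T T' : Scheme.{u}} (h : T' ⟶ T) [IsIntegral T] [Subsingleton T]
    [IsIntegral T'] [Subsingleton T'] :
    (@Surjective ⊓ @Flat ⊓ @QuasiCompact : MorphismProperty Scheme.{u}) h := by
  refine ⟨⟨⟨fun x => ⟨Classical.arbitrary T', Subsingleton.elim _ _⟩⟩, ?_⟩, ?_⟩
  · rw [Flat.iff_flat_stalkMap]
    intro x
    letI := (RA.isField_stalk_of_subsingleton T (h x)).toField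
    letI := (h.stalkMap x).hom.toAlgebra
    exact (inferInstance : Module.Flat (T.presheaf.stalk (h x)) (T'.presheaf.stalk x))
  · haveI : IsAffine T := by
      obtain ⟨U, hU, hxU, -⟩ :=
        exists_isAffineOpen_mem_and_subset (X := T) (x := Classical.arbitrary T) (U := ⊤) trivial
      have : U = ⊤ := top_le_iff.1 fun y _ => (Subsingleton.elim _ y) ▸ hxU
      subst this
      haveI : IsAffine ((⊤ : T.Opens) : Scheme.{u}) := hU
      exact .of_isIso (Scheme.topIso T).inv
    haveI : CompactSpace T' := ⟨Set.subsingleton_univ.isCompact⟩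
    exact (HasAffineProperty.iff_of_isAffine (P := @QuasiCompact)).2 inferInstance

lemma interior_nonempty_or_of_isLocallyConstructible {S : Scheme.{u}} [IsIntegral S]
    [AlgebraicGeometry.IsNoetherian S] {E : Set S} (hE : IsLocallyConstructible E) :
    (interior E).Nonempty ∨ (interior Eᶜ).Nonempty := by
  have hη : ∀ U : Set S, IsOpen U → U.Nonempty → genericPoint S ∈ U := fun U hU hne =>
    ((genericPoint_spec S).mem_open_set_iff hU).2 (by simpa using hne)
  by_cases h : genericPoint S ∈ E
  · obtain ⟨O, hO, hηO, hOE⟩ :=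
      FibDim4.exists_open_subset_of_isConstructible hE.isConstructible hη h
    exact .inl ⟨_, interior_maximal hOE hO hηO⟩
  · obtain ⟨O, hO, hηO, hOE⟩ :=
      FibDim4.exists_open_subset_of_isConstructible hE.isConstructible.compl hη h
    exact .inr ⟨_, interior_maximal hOE hO hηO⟩

variable (Q : MorphismProperty Scheme.{u}) [Q.IsStableUnderBaseChange]
  [Q.DescendsAlong (@Surjective ⊓ @Flat ⊓ @QuasiCompact)]

theorem isConsMor_of_constructible
    (h : ∀ {X Y S : Scheme.{u}} (f : X ⟶ Y) (g : Y ⟶ S)
      [LocallyOfFinitePresentation g] [QuasiCompact g] [QuasiSeparated g]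
      [LocallyOfFinitePresentation (f ≫ g)] [QuasiCompact (f ≫ g)] [QuasiSeparated (f ≫ g)],
      IsLocallyConstructible {s : S | Q (MoreMor.fiberMap f g s)}) :
    ConsProp.IsConsMor (fun _ _ _ f _ => Q f) := by
  refine ⟨fun X X' Y Y' T T' f g f' g' eX eY k _ _ _ _ _ _ _ _ hY hX => ?_, fun X Y S f g _ _ _ _ _ _ => ?_⟩
  · refine ⟨fun hf => Q.of_isPullback hX hf, fun hf' => ?_⟩
    exact MorphismProperty.of_isPullback_of_descendsAlong hX.flip
      (MorphismProperty.of_isPullback hY.flip (fpqc_of_subsingleton k)) hf'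
  · haveI : IsLocallyNoetherian X := LocallyOfFiniteType.isLocallyNoetherian (f ≫ g)
    haveI : IsLocallyNoetherian Y := LocallyOfFiniteType.isLocallyNoetherian g
    exact interior_nonempty_or_of_isLocallyConstructible (h f g)

theorem isCons_of_constructible
    (h : ∀ {X Y S : Scheme.{u}} (f : X ⟶ Y) (g : Y ⟶ S)
      [LocallyOfFinitePresentation g] [QuasiCompact g] [QuasiSeparated g]
      [LocallyOfFinitePresentation (f ≫ g)] [QuasiCompact (f ≫ g)] [QuasiSeparated (f ≫ g)],
      IsLocallyConstructible {s : S | Q (MoreMor.fiberMap f g s)}) :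
    ConsProp.IsCons (fun _ _ g => Q g) := by
  refine ⟨fun Y Y' T T' g g' e k _ _ _ _ _ _ sq => ?_, fun X S u _ _ _ _ => ?_⟩
  · exact ⟨fun hg => Q.of_isPullback sq hg, fun hg' =>
      MorphismProperty.of_isPullback_of_descendsAlong sq.flip (fpqc_of_subsingleton k) hg'⟩
  · haveI : IsLocallyNoetherian X := LocallyOfFiniteType.isLocallyNoetherian u
    haveI : LocallyOfFinitePresentation (u ≫ 𝟙 S) := by rw [Category.comp_id]; infer_instance
    have key : ConsProp.locus (fun _ _ g => Q g) u = {s : S | Q (MoreMor.fiberMap u (𝟙 S) s)} := by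
      ext s
      haveI : IsIso ((𝟙 S : S ⟶ S).fiberToSpecResidueField s) :=
        inferInstanceAs (IsIso (pullback.snd (𝟙 S) _))
      have : ∀ v : X ⟶ S, v = u → (Q (v.fiberToSpecResidueField s) ↔ Q (u.fiberToSpecResidueField s)) := by
        rintro _ rfl; rfl
      show Q (u.fiberToSpecResidueField s) ↔ Q (MoreMor.fiberMap u (𝟙 S) s)
      rw [← this (u ≫ 𝟙 S) (Category.comp_id u), ← fiberMap_snd u (𝟙 S) s, Q.cancel_right_of_respectsIso]
    rw [key]
    exact interior_nonempty_or_of_isLocallyConstructible (h u (𝟙 S))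

omit Q in
/-- The dimension is a constructible property. -/
theorem isCons_dim_mem (Φ : Set (WithBot ℕ∞)) :
    ConsProp.IsCons (fun Y _ _ => topologicalKrullDim ↥Y ∈ Φ) := by
  refine ⟨fun Y Y' T T' g g' e k _ _ _ _ _ _ sq => ?_, fun X S u _ _ _ _ => ?_⟩
  · obtain ⟨t'⟩ := (inferInstance : Nonempty T')
    haveI := isIso_fromSpecResidueField_of_subsingleton T (k t')
    haveI := isIso_fromSpecResidueField_of_subsingleton T' t'
    haveI : IsIso (g.fiberι (k t')) := inferInstanceAs (IsIso (pullback.fst g _))
    haveI : IsIso (g'.fiberι t') := inferInstanceAs (IsIso (pullback.fst g' _))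
    haveI : LocallyOfFiniteType (g.fiberToSpecResidueField (k t')) :=
      MorphismProperty.pullback_snd _ _ inferInstance
    have h := FibDim4.topologicalKrullDim_eq_of_isPullback (k.residueFieldMap t') (Field.toIsField _)
      (Field.toIsField _) (g.fiberToSpecResidueField (k t')) _ _
      (isPullback_fiberToSpecResidueField_of_isPullback sq t')
    have e1 := IsHomeomorph.topologicalKrullDim_eq _ (g.fiberι (k t')).homeomorph.isHomeomorph
    have e2 := IsHomeomorph.topologicalKrullDim_eq _ (g'.fiberι t').homeomorph.isHomeomorph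
    show topologicalKrullDim ↥Y ∈ Φ ↔ topologicalKrullDim ↥Y' ∈ Φ
    rw [e1.symm.trans (h.symm.trans e2)]
  · obtain ⟨V, hηV, hV⟩ := FibDim4.exists_forall_dim_fiber u
    by_cases hη : genericPoint S ∈ ConsProp.locus (fun Y _ _ => topologicalKrullDim ↥Y ∈ Φ) u
    · refine .inl ⟨_, interior_maximal (fun y hy => ?_) V.2 hηV⟩
      show topologicalKrullDim ↥(u.fiber y) ∈ Φ
      rw [hV y hy]; exact hη
    · refine .inr ⟨_, interior_maximal (s := (ConsProp.locus (fun Y _ _ => topologicalKrullDim ↥Y ∈ Φ) u)ᶜ)
        (fun y hy hy' => hη ?_) V.2 hηV⟩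
      show topologicalKrullDim ↥(u.fiber _) ∈ Φ
      rw [← hV y hy]; exact hy'

end Groth.Agent.ConsH13
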