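import Mathlib.AlgebraicGeometry.Noetherian
import Mathlib.AlgebraicGeometry.Morphisms.Affine
import Mathlib.Algebra.Category.Ring.FilteredColimits
import Mathlib.Algebra.Category.Ring.Constructions
import Mathlib.RingTheory.Adjoin.FG
import Mathlib.RingTheory.FiniteType
import Mathlib.CategoryTheory.Limits.Types.Filtered

/-!
# An affine scheme as a limit of affine schemes of finite type over a noetherian base
-/

universe u

open CategoryTheory CategoryTheory.Limits AlgebraicGeometry Opposite

set_option linter.style.haveILetI false

namespace Groth.Agent.ConsH13.Over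

variable (R A : Type u) [CommRing R] [IsNoetherianRing R] [CommRing A] [Algebra R A]

/-- The finitely generated subrings of `A`. -/
abbrev FGSub : Type u := {S : Subalgebra R A // S.FG}

instance : SemilatticeSup (FGSub R A) := Subtype.semilatticeSup fun _ _ hS hT => Subalgebra.FG.sup hS hT

instance : Nonempty (FGSub R A) := ⟨⟨⊥, Subalgebra.fg_bot⟩⟩

/-- The system of finitely generated subrings. -/
noncomputable def subFunctor : FGSub R A ⥤ CommRingCat.{u} where
  obj S := CommRingCat.of S.1
  map {S T} h := CommRingCat.ofHom (Subalgebra.inclusion (leOfHom h : S.1 ≤ T.1)).toRingHom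

/-- The ring as a cocone on its finitely generated subrings. -/
noncomputable def subCocone : Cocone (subFunctor R A) where
  pt := CommRingCat.of A
  ι :=
    { app := fun S => CommRingCat.ofHom S.1.val.toRingHom
      naturality := fun _ _ _ => rfl }

/-- A ring is the colimit of its finitely generated subrings. -/
noncomputable def isColimitSubCocone : IsColimit (subCocone R A) :=
  haveI : ReflectsColimit (subFunctor R A) (forget CommRingCat.{u}) :=
    reflectsColimit_of_reflectsIsomorphisms _ _
  isColimitOfReflects (forget CommRingCat.{u}) <| Types.FilteredColimit.isColimitOf' _ _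
    (fun (a : A) => ⟨⟨Algebra.adjoin R {a}, Subalgebra.fg_adjoin_finset {a} |> fun h => by simpa using h⟩,
      ⟨a, Algebra.subset_adjoin rfl⟩, rfl⟩)
    (fun S x y h => ⟨S, 𝟙 S, by
      have : x = y := Subtype.ext h
      rw [this]⟩)

/-- The limit system of the spectra of the finitely generated subrings. -/
noncomputable def approxDiagram : (FGSub R A)ᵒᵖ ⥤ Scheme.{u} := (subFunctor R A).op ⋙ Scheme.Spec

/-- The spectrum of a ring as a cone over the approximations. -/
noncomputable def approxCone : Cone (approxDiagram R A) := Scheme.Spec.mapCone (subCocone R A).op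

/-- The spectrum of a ring is the limit of the approximations. -/
noncomputable def isLimitApproxCone : IsLimit (approxCone R A) :=
  isLimitOfPreserves Scheme.Spec (isColimitSubCocone R A).op

instance (S : (FGSub R A)ᵒᵖ) : IsNoetherianRing ((subFunctor R A).obj S.unop) :=
  haveI : Algebra.FiniteType R S.unop.1 := (Subalgebra.fg_iff_finiteType _).1 S.unop.2
  Algebra.FiniteType.isNoetherianRing R S.unop.1

instance (S : (FGSub R A)ᵒᵖ) : IsAffine ((approxDiagram R A).obj S) :=
  inferInstanceAs (IsAffine (Spec _))

instance (S : (FGSub R A)ᵒᵖ) : AlgebraicGeometry.IsNoetherian ((approxDiagram R A).obj S) :=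
  inferInstanceAs (AlgebraicGeometry.IsNoetherian (Spec ((subFunctor R A).obj S.unop)))

instance {S T : (FGSub R A)ᵒᵖ} (a : S ⟶ T) : IsAffineHom ((approxDiagram R A).map a) :=
  isAffineHom_of_isAffine _

end Groth.Agent.ConsH13.Over
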