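import Groth.Prelude.Def_ProCons
import Mathlib.AlgebraicGeometry.Noetherian
import Mathlib.RingTheory.Spectrum.Prime.Noetherian
import Mathlib.AlgebraicGeometry.Morphisms.FinitePresentation
import Mathlib.AlgebraicGeometry.Morphisms.ClosedImmersion

/-!
# Constructibility from generic behaviour on irreducible closed subsets
-/

universe u

open CategoryTheory AlgebraicGeometry Topology TopologicalSpace

set_option linter.style.haveILetI false

namespace Groth.Agent.ConsH13

section Top

variable {X : Type u} [TopologicalSpace X] [NoetherianSpace X]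

lemma isConstructible_of_isOpen {U : Set X} (hU : IsOpen U) : IsConstructible U :=
  IsRetrocompact.isConstructible hU fun _ _ _ => NoetherianSpace.isCompact _

lemma isConstructible_of_isClosed {Z : Set X} (hZ : IsClosed Z) : IsConstructible Z :=
  isConstructible_compl.1 (isConstructible_of_isOpen hZ.isOpen_compl)

/-- Noetherian induction. -/
theorem isConstructible_of_generic (E : Set X)
    (h : ∀ Z : Set X, IsIrreducible Z → IsClosed Z →
      ∃ U : Set X, IsOpen U ∧ (Z ∩ U).Nonempty ∧ (Z ∩ U ⊆ E ∨ Z ∩ U ⊆ Eᶜ)) :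
    IsConstructible E := by
  suffices ∀ Z : Closeds X, IsConstructible (E ∩ (Z : Set X)) by simpa using this ⊤
  intro Z
  induction Z using WellFoundedLT.induction with
  | _ Z ih =>
    rcases Set.eq_empty_or_nonempty (Z : Set X) with hZ | hne
    · simp [hZ]
    by_cases hirr : IsPreirreducible (Z : Set X)
    · obtain ⟨U, hU, hUne, hcase⟩ := h Z ⟨hne, hirr⟩ Z.isClosed
      let Z' : Closeds X := ⟨(Z : Set X) ∩ Uᶜ, Z.isClosed.inter hU.isClosed_compl⟩
      have hlt : Z' < Z := by
        refine lt_of_le_of_ne (fun x hx => hx.1) fun he => ?_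
        obtain ⟨x, hxZ, hxU⟩ := hUne
        exact ((he ▸ hxZ : x ∈ (Z' : Set X))).2 hxU
      have h1 : IsConstructible (E ∩ ((Z : Set X) ∩ U)) := by
        rcases hcase with h' | h'
        · rw [Set.inter_eq_right.2 h']
          exact (isConstructible_of_isClosed Z.isClosed).inter (isConstructible_of_isOpen hU)
        · rw [show E ∩ ((Z : Set X) ∩ U) = ∅ from Set.eq_empty_of_forall_notMem fun x hx => h' hx.2 hx.1]
          exact IsConstructible.empty
      have : E ∩ (Z : Set X) = (E ∩ (Z' : Set X)) ∪ (E ∩ ((Z : Set X) ∩ U)) := by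
        rw [← Set.inter_union_distrib_left]
        congr 1
        exact (Set.inter_union_compl _ U).symm.trans (Set.union_comm _ _)
      rw [this]
      exact (ih Z' hlt).union h1
    · simp only [IsPreirreducible, not_forall] at hirr
      obtain ⟨U, V, hU, hV, hZU, hZV, hUV⟩ := hirr
      let Z₁ : Closeds X := ⟨(Z : Set X) ∩ Uᶜ, Z.isClosed.inter hU.isClosed_compl⟩
      let Z₂ : Closeds X := ⟨(Z : Set X) ∩ Vᶜ, Z.isClosed.inter hV.isClosed_compl⟩
      have hlt₁ : Z₁ < Z := by
        refine lt_of_le_of_ne (fun x hx => hx.1) fun he => ?_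
        obtain ⟨x, hxZ, hxU⟩ := hZU
        exact ((he ▸ hxZ : x ∈ (Z₁ : Set X))).2 hxU
      have hlt₂ : Z₂ < Z := by
        refine lt_of_le_of_ne (fun x hx => hx.1) fun he => ?_
        obtain ⟨x, hxZ, hxV⟩ := hZV
        exact ((he ▸ hxZ : x ∈ (Z₂ : Set X))).2 hxV
      have : E ∩ (Z : Set X) = (E ∩ (Z₁ : Set X)) ∪ (E ∩ (Z₂ : Set X)) := by
        rw [← Set.inter_union_distrib_left]
        congr 1
        show (Z : Set X) = (Z : Set X) ∩ Uᶜ ∪ (Z : Set X) ∩ Vᶜ
        rw [← Set.inter_union_distrib_left, ← Set.compl_inter]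
        refine (Set.inter_eq_left.2 fun x hx hx' => hUV ⟨x, hx, hx'⟩).symm
      rw [this]
      exact (ih Z₁ hlt₁).union (ih Z₂ hlt₂)

/-- Ind-constructibility from behaviour at generic points. -/
theorem exists_isConstructible_subset (E : Set X) {x : X} (hx : x ∈ E)
    (h : ∀ Z : Set X, IsIrreducible Z → IsClosed Z → IsGenericPoint x Z →
      ∃ U : Set X, IsOpen U ∧ (Z ∩ U).Nonempty ∧ Z ∩ U ⊆ E) :
    ∃ C : Set X, IsConstructible C ∧ x ∈ C ∧ C ⊆ E := by
  have hgen : IsGenericPoint x (closure {x}) := rfl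
  obtain ⟨U, hU, hne, hsub⟩ := h _ hgen.isIrreducible isClosed_closure hgen
  refine ⟨closure {x} ∩ U, (isConstructible_of_isClosed isClosed_closure).inter
    (isConstructible_of_isOpen hU), ⟨subset_closure rfl, ?_⟩, hsub⟩
  exact (hgen.mem_open_set_iff hU).2 hne

end Top

lemma fromSpec_isoSpec_hom {S : Scheme.{u}} {U : S.Opens} (hU : IsAffineOpen U) (y : U) :
    hU.fromSpec (hU.isoSpec.hom y) = y.1 :=
  congrArg (fun m : (U : Scheme.{u}) ⟶ S => m y) hU.isoSpec_hom_fromSpec

/-- A set of points of a scheme is ind-constructible if it is covered by constructible subsets on the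
affine opens. -/
theorem isIndConstructible_of_affine {S : Scheme.{u}} (E : Set S)
    (h : ∀ (A : CommRingCat.{u}) (σ : Spec A ⟶ S) (_ : IsOpenImmersion σ), ∀ p ∈ σ ⁻¹' E,
      ∃ C : Set (Spec A), IsConstructible C ∧ p ∈ C ∧ C ⊆ σ ⁻¹' E) :
    ProCons.IsIndConstructible E := by
  intro x
  obtain ⟨U, hU, hxU, -⟩ :=
    exists_isAffineOpen_mem_and_subset (X := S) (x := x) (U := ⊤) trivial
  refine ⟨U, U.2, hxU, {T | IsLocallyConstructible T ∧ T ⊆ Subtype.val ⁻¹' E}, fun T hT => hT.1, ?_⟩
  refine subset_antisymm (fun y hy => ?_) (Set.sUnion_subset fun T hT => hT.2)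
  have hσy := fromSpec_isoSpec_hom hU y
  obtain ⟨C, hC, hyC, hCE⟩ := h _ hU.fromSpec inferInstance (hU.isoSpec.hom y)
    (show hU.fromSpec (hU.isoSpec.hom y) ∈ E from hσy ▸ hy)
  refine Set.mem_sUnion.2 ⟨hU.isoSpec.hom ⁻¹' C,
    ⟨(hC.preimage_of_isOpenEmbedding hU.isoSpec.hom.isOpenEmbedding).isLocallyConstructible,
      fun z hz => ?_⟩, hyC⟩
  have := hCE hz
  rw [Set.mem_preimage, fromSpec_isoSpec_hom hU z] at this
  exact this

/-- A set of points of a scheme is locally constructible if it is constructible on the affine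
opens. -/
theorem isLocallyConstructible_of_affine {S : Scheme.{u}} (E : Set S)
    (h : ∀ (A : CommRingCat.{u}) (σ : Spec A ⟶ S) (_ : IsOpenImmersion σ),
      IsConstructible (σ ⁻¹' E)) :
    IsLocallyConstructible E := by
  intro x
  obtain ⟨U, hU, hxU, -⟩ :=
    exists_isAffineOpen_mem_and_subset (X := S) (x := x) (U := ⊤) trivial
  refine ⟨U, U.2.mem_nhds hxU, U.2, ?_⟩
  refine (congrArg IsConstructible (Set.ext fun y => ?_)).mp
    ((h _ hU.fromSpec inferInstance).preimage_of_isOpenEmbedding hU.isoSpec.hom.isOpenEmbedding)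
  show hU.fromSpec (hU.isoSpec.hom y) ∈ E ↔ y.1 ∈ E
  rw [fromSpec_isoSpec_hom hU y]

/-- An irreducible closed subset of a noetherian affine scheme as an integral noetherian scheme. -/
theorem exists_integral_subscheme {R : CommRingCat.{u}} [IsNoetherianRing R] {Z : Set (Spec R)}
    (hZ : IsIrreducible Z) (hZc : IsClosed Z) :
    ∃ (W : Scheme.{u}) (i : W ⟶ Spec R) (_ : IsIntegral W),
      AlgebraicGeometry.IsNoetherian W ∧ IsClosedImmersion i ∧ Set.range i = Z := by
  obtain ⟨s, rfl⟩ := (PrimeSpectrum.isClosed_iff_zeroLocus_ideal _).1 hZc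
  haveI : s.radical.IsPrime := (PrimeSpectrum.isIrreducible_zeroLocus_iff s).1 hZ
  refine ⟨Spec (CommRingCat.of (R ⧸ s.radical)),
    Spec.map (CommRingCat.ofHom (Ideal.Quotient.mk s.radical)), inferInstance, inferInstance,
    IsClosedImmersion.spec_of_surjective _ Ideal.Quotient.mk_surjective, ?_⟩
  show Set.range (PrimeSpectrum.comap (Ideal.Quotient.mk s.radical)) = _
  rw [range_comap_of_surjective _ _ Ideal.Quotient.mk_surjective, Ideal.mk_ker,
    PrimeSpectrum.zeroLocus_radical]

end Groth.Agent.ConsH13
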