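import Groth.Prelude.Def_W4ega4s0809p4Pair

/-!
# The locus of a field stable property commutes with base change
-/

universe u

open CategoryTheory CategoryTheory.Limits AlgebraicGeometry

set_option linter.style.haveILetI false
set_option backward.isDefEq.respectTransparency false

namespace Groth.Agent.ConsH13

variable {X Y S S' X' Y' : Scheme.{u}}

lemma fiberMap_snd (f : X ⟶ Y) (g : Y ⟶ S) (s : S) :
    MoreMor.fiberMap f g s ≫ g.fiberToSpecResidueField s = (f ≫ g).fiberToSpecResidueField s :=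
  pullback.lift_snd _ _ _

lemma fiberMap_fst (f : X ⟶ Y) (g : Y ⟶ S) (s : S) :
    MoreMor.fiberMap f g s ≫ g.fiberι s = (f ≫ g).fiberι s ≫ f :=
  pullback.lift_fst _ _ _

/-- The square of fibre maps over an `S`-morphism is cartesian. -/
lemma isPullback_fiberMap (f : X ⟶ Y) (g : Y ⟶ S) (s : S) :
    IsPullback ((f ≫ g).fiberι s) (MoreMor.fiberMap f g s) f (g.fiberι s) := by
  refine IsPullback.of_bot ?_ (fiberMap_fst f g s).symm (IsPullback.of_hasPullback g _)
  change IsPullback _ (MoreMor.fiberMap f g s ≫ g.fiberToSpecResidueField s) (f ≫ g) _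
  rw [fiberMap_snd]
  exact IsPullback.of_hasPullback (f ≫ g) _

/-- The map of fibres over a base change. -/
noncomputable def baseFibre {u : X ⟶ S} {u' : X' ⟶ S'} {p : X' ⟶ X} {h : S' ⟶ S}
    (H : IsPullback p u' u h) (s : S') : u'.fiber s ⟶ u.fiber (h s) :=
  pullback.map _ _ _ _ p (Spec.map (h.residueFieldMap s)) h H.w.symm (by simp)

lemma baseFibre_fst {u : X ⟶ S} {u' : X' ⟶ S'} {p : X' ⟶ X} {h : S' ⟶ S}
    (H : IsPullback p u' u h) (s : S') :
    baseFibre H s ≫ u.fiberι (h s) = u'.fiberι s ≫ p :=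
  pullback.lift_fst _ _ _

lemma baseFibre_snd {u : X ⟶ S} {u' : X' ⟶ S'} {p : X' ⟶ X} {h : S' ⟶ S}
    (H : IsPullback p u' u h) (s : S') :
    baseFibre H s ≫ u.fiberToSpecResidueField (h s) =
      u'.fiberToSpecResidueField s ≫ Spec.map (h.residueFieldMap s) :=
  pullback.lift_snd _ _ _

theorem preimage_locus {P : ∀ ⦃Y T : Scheme.{u}⦄, (Y ⟶ T) → Prop} (hP : ConsProp.IsFieldStable P)
    {u : X ⟶ S} [LocallyOfFiniteType u] [QuasiCompact u] {u' : X' ⟶ S'} {p : X' ⟶ X} {h : S' ⟶ S}
    (H : IsPullback p u' u h) :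
    h ⁻¹' ConsProp.locus P u = ConsProp.locus P u' := by
  ext s
  haveI : LocallyOfFiniteType (u.fiberToSpecResidueField (h s)) :=
    MorphismProperty.pullback_snd _ _ inferInstance
  haveI : QuasiCompact (u.fiberToSpecResidueField (h s)) :=
    MorphismProperty.pullback_snd _ _ inferInstance
  exact hP _ _ _ _ (isPullback_fiberToSpecResidueField_of_isPullback H s)

theorem preimage_locusPair {P : ∀ ⦃X Y T : Scheme.{u}⦄, (X ⟶ T) → (Y ⟶ T) → Prop}
    (hP : ConsPropPair.IsFieldStablePair P)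
    {u : X ⟶ S} {v : Y ⟶ S} [LocallyOfFiniteType u] [QuasiCompact u] [LocallyOfFiniteType v] [QuasiCompact v]
    {u' : X' ⟶ S'} {v' : Y' ⟶ S'} {pX : X' ⟶ X} {pY : Y' ⟶ Y} {h : S' ⟶ S}
    (HX : IsPullback pX u' u h) (HY : IsPullback pY v' v h) :
    h ⁻¹' ConsPropPair.locusPair P u v = ConsPropPair.locusPair P u' v' := by
  ext s
  haveI : LocallyOfFiniteType (u.fiberToSpecResidueField (h s)) :=
    MorphismProperty.pullback_snd _ _ inferInstance
  haveI : QuasiCompact (u.fiberToSpecResidueField (h s)) :=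
    MorphismProperty.pullback_snd _ _ inferInstance
  haveI : LocallyOfFiniteType (v.fiberToSpecResidueField (h s)) :=
    MorphismProperty.pullback_snd _ _ inferInstance
  haveI : QuasiCompact (v.fiberToSpecResidueField (h s)) :=
    MorphismProperty.pullback_snd _ _ inferInstance
  exact hP _ _ _ _ _ _ _ (isPullback_fiberToSpecResidueField_of_isPullback HX s)
    (isPullback_fiberToSpecResidueField_of_isPullback HY s)

theorem preimage_locusMor {P : ∀ ⦃X Y T : Scheme.{u}⦄, (X ⟶ Y) → (Y ⟶ T) → Prop}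
    (hP : ConsProp.IsFieldStableMor P) {f : X ⟶ Y} {g : Y ⟶ S}
    [LocallyOfFiniteType g] [QuasiCompact g] [LocallyOfFiniteType (f ≫ g)] [QuasiCompact (f ≫ g)]
    {f' : X' ⟶ Y'} {g' : Y' ⟶ S'} {pX : X' ⟶ X} {pY : Y' ⟶ Y} {h : S' ⟶ S}
    (HY : IsPullback pY g' g h) (HX : IsPullback pX f' f pY) :
    h ⁻¹' ConsProp.locusMor P f g = ConsProp.locusMor P f' g' := by
  ext s
  haveI : LocallyOfFiniteType (g.fiberToSpecResidueField (h s)) :=
    MorphismProperty.pullback_snd _ _ inferInstance
  haveI : QuasiCompact (g.fiberToSpecResidueField (h s)) :=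
    MorphismProperty.pullback_snd _ _ inferInstance
  haveI : LocallyOfFiniteType (MoreMor.fiberMap f g (h s) ≫ g.fiberToSpecResidueField (h s)) := by
    rw [fiberMap_snd]; exact MorphismProperty.pullback_snd _ _ inferInstance
  haveI : QuasiCompact (MoreMor.fiberMap f g (h s) ≫ g.fiberToSpecResidueField (h s)) := by
    rw [fiberMap_snd]; exact MorphismProperty.pullback_snd _ _ inferInstance
  have sqY := isPullback_fiberToSpecResidueField_of_isPullback HY s
  have sqX := isPullback_fiberToSpecResidueField_of_isPullback (HX.paste_vert HY) s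
  refine hP _ _ _ _ (baseFibre (HX.paste_vert HY) s) (baseFibre HY s) _ sqY (IsPullback.of_bot ?_ ?_ sqY)
  · rw [fiberMap_snd, fiberMap_snd]
    exact sqX
  · apply pullback.hom_ext
    · show (_ ≫ MoreMor.fiberMap f g (h s)) ≫ g.fiberι (h s) =
        (MoreMor.fiberMap f' g' s ≫ _) ≫ g.fiberι (h s)
      simp only [Category.assoc, fiberMap_fst, baseFibre_fst]
      rw [← Category.assoc, baseFibre_fst, ← Category.assoc (MoreMor.fiberMap f' g' s), fiberMap_fst,
        Category.assoc, Category.assoc, HX.w]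
    · show (_ ≫ MoreMor.fiberMap f g (h s)) ≫ g.fiberToSpecResidueField (h s) =
        (MoreMor.fiberMap f' g' s ≫ _) ≫ g.fiberToSpecResidueField (h s)
      simp only [Category.assoc, fiberMap_snd, baseFibre_snd]
      rw [← Category.assoc, fiberMap_snd]

end Groth.Agent.ConsH13
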