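import Groth.Agent.Lib.ConsH13.Approx
import Groth.Agent.Lib.ConsH13.Topo
import Groth.Agent.Lib.ConsH13.Fibre
import Groth.Agent.Lib.LimH13.DescendFP
import Groth.Agent.Lib.LimH13.Hom

/-!
# Loci of constructible properties are constructible
-/

universe u

open CategoryTheory CategoryTheory.Limits AlgebraicGeometry Topology Opposite
open Groth.Agent.LimH13

set_option linter.style.haveILetI false
set_option backward.isDefEq.respectTransparency false

namespace Groth.Agent.ConsH13

lemma exists_open_of_interior {W S : Scheme.{u}} (i : W ⟶ S) [IsClosedImmersion i] {E : Set S}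
    (h : (interior (i ⁻¹' E)).Nonempty) :
    ∃ U : Set S, IsOpen U ∧ (Set.range i ∩ U).Nonempty ∧ Set.range i ∩ U ⊆ E := by
  obtain ⟨U, hU, hUeq⟩ := i.isClosedEmbedding.isInducing.isOpen_iff.1 (isOpen_interior (s := i ⁻¹' E))
  obtain ⟨w, hw⟩ := h
  refine ⟨U, hU, ⟨i w, ⟨w, rfl⟩, (Set.ext_iff.1 hUeq w).2 hw⟩, ?_⟩
  rintro _ ⟨⟨w, rfl⟩, hwU⟩
  exact interior_subset (s := i ⁻¹' E) ((Set.ext_iff.1 hUeq w).1 hwU)

/-- Constructibility of a subset of a noetherian affine scheme from its behaviour on the integral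
closed subschemes. -/
theorem isConstructible_of_integral {R : CommRingCat.{u}} [IsNoetherianRing R] (E : Set (Spec R))
    (h : ∀ (W : Scheme.{u}) (i : W ⟶ Spec R) [IsIntegral W] [AlgebraicGeometry.IsNoetherian W]
      [IsClosedImmersion i], (interior (i ⁻¹' E)).Nonempty ∨ (interior (i ⁻¹' E)ᶜ).Nonempty) :
    IsConstructible E := by
  refine isConstructible_of_generic E fun Z hZ hZc => ?_
  obtain ⟨W, i, hWi, hWn, hi, rfl⟩ := exists_integral_subscheme hZ hZc
  haveI := hWi
  haveI := hWn
  haveI := hi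
  rcases h W i with h1 | h1
  · obtain ⟨U, hU, hne, hsub⟩ := exists_open_of_interior i h1
    exact ⟨U, hU, hne, .inl hsub⟩
  · rw [← Set.preimage_compl] at h1
    obtain ⟨U, hU, hne, hsub⟩ := exists_open_of_interior i h1
    exact ⟨U, hU, hne, .inr hsub⟩

/-- Ind-constructibility of a subset of a noetherian affine scheme from its behaviour at the generic
points of the integral closed subschemes. -/
theorem exists_constructible_of_integral {R : CommRingCat.{u}} [IsNoetherianRing R] (E : Set (Spec R))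
    (h : ∀ (W : Scheme.{u}) (i : W ⟶ Spec R) [IsIntegral W] [AlgebraicGeometry.IsNoetherian W]
      [IsClosedImmersion i], genericPoint W ∈ i ⁻¹' E → (interior (i ⁻¹' E)).Nonempty)
    {x : Spec R} (hx : x ∈ E) :
    ∃ C : Set (Spec R), IsConstructible C ∧ x ∈ C ∧ C ⊆ E := by
  refine exists_isConstructible_subset E hx fun Z hZ hZc hgen => ?_
  obtain ⟨W, i, hWi, hWn, hi, rfl⟩ := exists_integral_subscheme hZ hZc
  haveI := hWi
  haveI := hWn
  haveI := hi
  have hg : IsGenericPoint (i (genericPoint W)) (Set.range i) := by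
    have := (genericPoint_spec W).image i.continuous
    rwa [Set.image_univ, hZc.closure_eq] at this
  refine exists_open_of_interior i (h W i ?_)
  show i (genericPoint W) ∈ E
  rwa [hg.eq hgen]

section Pair

variable {P : ∀ ⦃X Y T : Scheme.{u}⦄, (X ⟶ T) → (Y ⟶ T) → Prop}

theorem isConstructible_locusPair_noeth (hP : ConsPropPair.IsConsPair P) {R : CommRingCat.{u}}
    [IsNoetherianRing R] {X Y : Scheme.{u}} (u : X ⟶ Spec R) (v : Y ⟶ Spec R)
    [LocallyOfFiniteType u] [QuasiCompact u] [LocallyOfFiniteType v] [QuasiCompact v] :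
    IsConstructible (ConsPropPair.locusPair P u v) := by
  refine isConstructible_of_integral _ fun W i _ _ _ => ?_
  rw [preimage_locusPair hP.1 (IsPullback.of_hasPullback u i) (IsPullback.of_hasPullback v i)]
  exact hP.2 _ _

theorem exists_constructible_locusPair_noeth (hP : ConsPropPair.IsIndConsPair P) {R : CommRingCat.{u}}
    [IsNoetherianRing R] {X Y : Scheme.{u}} (u : X ⟶ Spec R) (v : Y ⟶ Spec R)
    [LocallyOfFiniteType u] [QuasiCompact u] [LocallyOfFiniteType v] [QuasiCompact v]
    {x : Spec R} (hx : x ∈ ConsPropPair.locusPair P u v) :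
    ∃ C : Set (Spec R), IsConstructible C ∧ x ∈ C ∧ C ⊆ ConsPropPair.locusPair P u v := by
  refine exists_constructible_of_integral _ (fun W i _ _ _ => ?_) hx
  rw [preimage_locusPair hP.1 (IsPullback.of_hasPullback u i) (IsPullback.of_hasPullback v i)]
  exact hP.2 _ _

end Pair

/-- Two schemes of finite presentation over an affine scheme come from a noetherian one. -/
theorem exists_noetherian_model_pair (A : CommRingCat.{u}) {X Y : Scheme.{u}} (u : X ⟶ Spec A)
    (v : Y ⟶ Spec A) [LocallyOfFinitePresentation u] [QuasiCompact u] [QuasiSeparated u]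
    [LocallyOfFinitePresentation v] [QuasiCompact v] [QuasiSeparated v] :
    ∃ (R : CommRingCat.{u}) (_ : IsNoetherianRing R) (π : Spec A ⟶ Spec R) (X' Y' : Scheme.{u})
      (u' : X' ⟶ Spec R) (v' : Y' ⟶ Spec R) (qX : X ⟶ X') (qY : Y ⟶ Y'),
      LocallyOfFiniteType u' ∧ QuasiCompact u' ∧ LocallyOfFiniteType v' ∧ QuasiCompact v' ∧
        IsPullback qX u u' π ∧ IsPullback qY v v' π := by
  let c := approxCone A
  have hc : IsLimit c := isLimitApproxCone A
  haveI : CompactSpace X := QuasiCompact.compactSpace_of_compactSpace u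
  haveI : CompactSpace Y := QuasiCompact.compactSpace_of_compactSpace v
  haveI : QuasiSeparatedSpace X := quasiSeparatedSpace_of_quasiSeparated u
  haveI : QuasiSeparatedSpace Y := quasiSeparatedSpace_of_quasiSeparated v
  obtain ⟨i, X₀, u₀, qX, h1, h2, h3, h4⟩ :=
    hasModel_of_finitePresentation hc (X := X) (u : X ⟶ c.pt)
  obtain ⟨j, Y₀, v₀, qY, k1, k2, k3, k4⟩ :=
    hasModel_of_finitePresentation hc (X := Y) (v : Y ⟶ c.pt)
  obtain ⟨X', u', qX', a1, a2, -, a4⟩ := HasModel.stage (D := approxDiagram A) (c := c) h4 (IsCofiltered.minToLeft i j)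
  obtain ⟨Y', v', qY', b1, b2, -, b4⟩ := HasModel.stage (D := approxDiagram A) (c := c) k4 (IsCofiltered.minToRight i j)
  exact ⟨(subFunctor A).obj (IsCofiltered.min i j).unop, inferInstance, c.π.app _, X', Y', u', v',
    qX', qY', inferInstance, HasAffineProperty.iff_of_isAffine.2 a2, inferInstance,
    HasAffineProperty.iff_of_isAffine.2 b2, a4, b4⟩

/-- A morphism of schemes of finite presentation over an affine scheme comes from a noetherian
one. -/
theorem exists_noetherian_model_mor (A : CommRingCat.{u}) {X Y : Scheme.{u}} (f : X ⟶ Y)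
    (g : Y ⟶ Spec A) [LocallyOfFinitePresentation g] [QuasiCompact g] [QuasiSeparated g]
    [LocallyOfFinitePresentation (f ≫ g)] [QuasiCompact (f ≫ g)] [QuasiSeparated (f ≫ g)] :
    ∃ (R : CommRingCat.{u}) (_ : IsNoetherianRing R) (π : Spec A ⟶ Spec R) (X' Y' : Scheme.{u})
      (f' : X' ⟶ Y') (g' : Y' ⟶ Spec R) (qX : X ⟶ X') (qY : Y ⟶ Y'),
      LocallyOfFiniteType g' ∧ QuasiCompact g' ∧ LocallyOfFiniteType (f' ≫ g') ∧
        QuasiCompact (f' ≫ g') ∧ IsPullback qY g g' π ∧ IsPullback qX f f' qY := by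
  let c := approxCone A
  have hc : IsLimit c := isLimitApproxCone A
  haveI : CompactSpace X := QuasiCompact.compactSpace_of_compactSpace (f ≫ g)
  haveI : CompactSpace Y := QuasiCompact.compactSpace_of_compactSpace g
  haveI : QuasiSeparatedSpace X := quasiSeparatedSpace_of_quasiSeparated (f ≫ g)
  haveI : QuasiSeparatedSpace Y := quasiSeparatedSpace_of_quasiSeparated g
  obtain ⟨i, X₀, u₀, qX, h1, h2, h3, h4⟩ :=
    hasModel_of_finitePresentation hc (X := X) (f ≫ g : X ⟶ c.pt)
  obtain ⟨j, Y₀, v₀, qY, k1, k2, k3, k4⟩ :=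
    hasModel_of_finitePresentation hc (X := Y) (g : Y ⟶ c.pt)
  obtain ⟨X₁, u₁, qX₁, a1, a2, a3, a4⟩ := HasModel.stage (D := approxDiagram A) (c := c) h4 (IsCofiltered.minToLeft i j)
  obtain ⟨Y₁, v₁, qY₁, b1, b2, b3, b4⟩ := HasModel.stage (D := approxDiagram A) (c := c) k4 (IsCofiltered.minToRight i j)
  obtain ⟨k, φ, f', sX, sY, e1, e2, e3, e4, e5, e6⟩ :=
    exists_hom_descend hc _ u₁ v₁ qX₁ (f ≫ g) a4 qY₁ g b4 f rfl
  have sqY : IsPullback sY g (pullback.snd v₁ (approxDiagram A |>.map φ)) (c.π.app k) :=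
    IsPullback.of_right (by rw [e4, c.w]; exact b4) e5 (IsPullback.of_hasPullback _ _)
  have sqX : IsPullback sX (f ≫ g) (pullback.snd u₁ (approxDiagram A |>.map φ)) (c.π.app k) :=
    IsPullback.of_right (by rw [e2, c.w]; exact a4) e3 (IsPullback.of_hasPullback _ _)
  haveI : CompactSpace ↥(pullback u₁ (approxDiagram A |>.map φ)) := compactSpace_pullback_map φ u₁
  haveI : CompactSpace ↥(pullback v₁ (approxDiagram A |>.map φ)) := compactSpace_pullback_map φ v₁
  have hsqX : IsPullback sX f f' sY := IsPullback.of_bot (by rw [e1]; exact sqX) e6 sqY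
  refine ⟨(subFunctor A).obj k.unop, inferInstance, c.π.app k, _, _, f',
    pullback.snd v₁ (approxDiagram A |>.map φ), sX, sY, inferInstance, ?_, ?_, ?_, sqY, hsqX⟩
  · exact (HasAffineProperty.iff_of_isAffine (P := @QuasiCompact)).2 inferInstance
  · rw [e1]; infer_instance
  · exact (HasAffineProperty.iff_of_isAffine (P := @QuasiCompact)).2 inferInstance

section Mor

variable {P : ∀ ⦃X Y T : Scheme.{u}⦄, (X ⟶ Y) → (Y ⟶ T) → Prop}

theorem isConstructible_locusMor_noeth (hP : ConsProp.IsConsMor P) {R : CommRingCat.{u}}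
    [IsNoetherianRing R] {X Y : Scheme.{u}} (f : X ⟶ Y) (g : Y ⟶ Spec R)
    [LocallyOfFiniteType g] [QuasiCompact g] [LocallyOfFiniteType (f ≫ g)] [QuasiCompact (f ≫ g)] :
    IsConstructible (ConsProp.locusMor P f g) := by
  refine isConstructible_of_integral _ fun W i _ _ _ => ?_
  have hY := IsPullback.of_hasPullback g i
  have hX := IsPullback.of_hasPullback f (pullback.fst g i)
  haveI : LocallyOfFiniteType (pullback.snd f (pullback.fst g i) ≫ pullback.snd g i) :=
    MorphismProperty.of_isPullback (P := @LocallyOfFiniteType) (hX.paste_vert hY) inferInstance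
  haveI : QuasiCompact (pullback.snd f (pullback.fst g i) ≫ pullback.snd g i) :=
    MorphismProperty.of_isPullback (P := @QuasiCompact) (hX.paste_vert hY) inferInstance
  rw [preimage_locusMor (f := f) (g := g) hP.1 hY hX]
  exact hP.2 (pullback.snd f (pullback.fst g i)) (pullback.snd g i)

theorem exists_constructible_locusMor_noeth (hP : ConsProp.IsIndConsMor P) {R : CommRingCat.{u}}
    [IsNoetherianRing R] {X Y : Scheme.{u}} (f : X ⟶ Y) (g : Y ⟶ Spec R)
    [LocallyOfFiniteType g] [QuasiCompact g] [LocallyOfFiniteType (f ≫ g)] [QuasiCompact (f ≫ g)]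
    {x : Spec R} (hx : x ∈ ConsProp.locusMor P f g) :
    ∃ C : Set (Spec R), IsConstructible C ∧ x ∈ C ∧ C ⊆ ConsProp.locusMor P f g := by
  refine exists_constructible_of_integral _ (fun W i _ _ _ => ?_) hx
  have hY := IsPullback.of_hasPullback g i
  have hX := IsPullback.of_hasPullback f (pullback.fst g i)
  haveI : LocallyOfFiniteType (pullback.snd f (pullback.fst g i) ≫ pullback.snd g i) :=
    MorphismProperty.of_isPullback (P := @LocallyOfFiniteType) (hX.paste_vert hY) inferInstance
  haveI : QuasiCompact (pullback.snd f (pullback.fst g i) ≫ pullback.snd g i) :=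
    MorphismProperty.of_isPullback (P := @QuasiCompact) (hX.paste_vert hY) inferInstance
  rw [preimage_locusMor (f := f) (g := g) hP.1 hY hX]
  exact hP.2 (pullback.snd f (pullback.fst g i)) (pullback.snd g i)

end Mor

section Global

variable {X Y S : Scheme.{u}}

theorem isLocallyConstructible_locusPair {P : ∀ ⦃X Y T : Scheme.{u}⦄, (X ⟶ T) → (Y ⟶ T) → Prop}
    (hP : ConsPropPair.IsConsPair P) (u : X ⟶ S) (v : Y ⟶ S)
    [LocallyOfFinitePresentation u] [QuasiCompact u] [QuasiSeparated u]
    [LocallyOfFinitePresentation v] [QuasiCompact v] [QuasiSeparated v] :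
    IsLocallyConstructible (ConsPropPair.locusPair P u v) := by
  refine isLocallyConstructible_of_affine _ fun A σ _ => ?_
  rw [preimage_locusPair hP.1 (IsPullback.of_hasPullback u σ) (IsPullback.of_hasPullback v σ)]
  obtain ⟨R, hR, π, X', Y', u', v', qX, qY, i1, i2, i3, i4, sX, sY⟩ :=
    exists_noetherian_model_pair A (pullback.snd u σ) (pullback.snd v σ)
  rw [← preimage_locusPair hP.1 sX sY]
  exact π.isConstructible_preimage (isConstructible_locusPair_noeth hP u' v')

/-- Around each point of the locus, on an affine base. -/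
theorem exists_constructible_locusPair {P : ∀ ⦃X Y T : Scheme.{u}⦄, (X ⟶ T) → (Y ⟶ T) → Prop}
    (hP : ConsPropPair.IsIndConsPair P) (u : X ⟶ S) (v : Y ⟶ S)
    [LocallyOfFinitePresentation u] [QuasiCompact u] [QuasiSeparated u]
    [LocallyOfFinitePresentation v] [QuasiCompact v] [QuasiSeparated v]
    (A : CommRingCat.{u}) (σ : Spec A ⟶ S) {p : Spec A}
    (hp : p ∈ σ ⁻¹' ConsPropPair.locusPair P u v) :
    ∃ C : Set (Spec A), IsConstructible C ∧ p ∈ C ∧ C ⊆ σ ⁻¹' ConsPropPair.locusPair P u v := by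
  rw [preimage_locusPair hP.1 (IsPullback.of_hasPullback u σ) (IsPullback.of_hasPullback v σ)] at hp ⊢
  obtain ⟨R, hR, π, X', Y', u', v', qX, qY, i1, i2, i3, i4, sX, sY⟩ :=
    exists_noetherian_model_pair A (pullback.snd u σ) (pullback.snd v σ)
  rw [← preimage_locusPair hP.1 sX sY] at hp ⊢
  obtain ⟨C, hC, hpC, hCE⟩ := exists_constructible_locusPair_noeth hP u' v' hp
  exact ⟨π ⁻¹' C, π.isConstructible_preimage hC, hpC, Set.preimage_mono hCE⟩

theorem isLocallyConstructible_locusMor {P : ∀ ⦃X Y T : Scheme.{u}⦄, (X ⟶ Y) → (Y ⟶ T) → Prop}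
    (hP : ConsProp.IsConsMor P) (f : X ⟶ Y) (g : Y ⟶ S)
    [LocallyOfFinitePresentation g] [QuasiCompact g] [QuasiSeparated g]
    [LocallyOfFinitePresentation (f ≫ g)] [QuasiCompact (f ≫ g)] [QuasiSeparated (f ≫ g)] :
    IsLocallyConstructible (ConsProp.locusMor P f g) := by
  refine isLocallyConstructible_of_affine _ fun A σ _ => ?_
  have hY := IsPullback.of_hasPullback g σ
  have hX := IsPullback.of_hasPullback f (pullback.fst g σ)
  haveI : LocallyOfFinitePresentation (pullback.snd f (pullback.fst g σ) ≫ pullback.snd g σ) :=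
    MorphismProperty.of_isPullback (P := @LocallyOfFinitePresentation) (hX.paste_vert hY) inferInstance
  haveI : QuasiCompact (pullback.snd f (pullback.fst g σ) ≫ pullback.snd g σ) :=
    MorphismProperty.of_isPullback (P := @QuasiCompact) (hX.paste_vert hY) inferInstance
  haveI : QuasiSeparated (pullback.snd f (pullback.fst g σ) ≫ pullback.snd g σ) :=
    MorphismProperty.of_isPullback (P := @QuasiSeparated) (hX.paste_vert hY) inferInstance
  rw [preimage_locusMor (f := f) (g := g) hP.1 hY hX]
  obtain ⟨R, hR, π, X', Y', f', g', qX, qY, i1, i2, i3, i4, sY, sX⟩ :=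
    exists_noetherian_model_mor A (pullback.snd f (pullback.fst g σ)) (pullback.snd g σ)
  rw [← preimage_locusMor (f := f') (g := g') hP.1 sY sX]
  exact π.isConstructible_preimage (isConstructible_locusMor_noeth hP f' g')

/-- Around each point of the locus, on an affine base. -/
theorem exists_constructible_locusMor {P : ∀ ⦃X Y T : Scheme.{u}⦄, (X ⟶ Y) → (Y ⟶ T) → Prop}
    (hP : ConsProp.IsIndConsMor P) (f : X ⟶ Y) (g : Y ⟶ S)
    [LocallyOfFinitePresentation g] [QuasiCompact g] [QuasiSeparated g]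
    [LocallyOfFinitePresentation (f ≫ g)] [QuasiCompact (f ≫ g)] [QuasiSeparated (f ≫ g)]
    (A : CommRingCat.{u}) (σ : Spec A ⟶ S) {p : Spec A}
    (hp : p ∈ σ ⁻¹' ConsProp.locusMor P f g) :
    ∃ C : Set (Spec A), IsConstructible C ∧ p ∈ C ∧ C ⊆ σ ⁻¹' ConsProp.locusMor P f g := by
  have hY := IsPullback.of_hasPullback g σ
  have hX := IsPullback.of_hasPullback f (pullback.fst g σ)
  haveI : LocallyOfFinitePresentation (pullback.snd f (pullback.fst g σ) ≫ pullback.snd g σ) :=
    MorphismProperty.of_isPullback (P := @LocallyOfFinitePresentation) (hX.paste_vert hY) inferInstance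
  haveI : QuasiCompact (pullback.snd f (pullback.fst g σ) ≫ pullback.snd g σ) :=
    MorphismProperty.of_isPullback (P := @QuasiCompact) (hX.paste_vert hY) inferInstance
  haveI : QuasiSeparated (pullback.snd f (pullback.fst g σ) ≫ pullback.snd g σ) :=
    MorphismProperty.of_isPullback (P := @QuasiSeparated) (hX.paste_vert hY) inferInstance
  rw [preimage_locusMor (f := f) (g := g) hP.1 hY hX] at hp ⊢
  obtain ⟨R, hR, π, X', Y', f', g', qX, qY, i1, i2, i3, i4, sY, sX⟩ :=
    exists_noetherian_model_mor A (pullback.snd f (pullback.fst g σ)) (pullback.snd g σ)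
  rw [← preimage_locusMor (f := f') (g := g') hP.1 sY sX] at hp ⊢
  obtain ⟨C, hC, hpC, hCE⟩ := exists_constructible_locusMor_noeth hP f' g' hp
  exact ⟨π ⁻¹' C, π.isConstructible_preimage hC, hpC, Set.preimage_mono hCE⟩

end Global

end Groth.Agent.ConsH13
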