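import Groth.Agent.Lib.ConsH13.Topo

/-!
# Preimages of ind-constructible and pro-constructible sets
-/

universe u

open CategoryTheory AlgebraicGeometry Topology TopologicalSpace

set_option linter.style.haveILetI false

namespace Groth.Agent.ConsH13

variable {X Y : Scheme.{u}}

lemma restrict_apply (f : X ⟶ Y) (U : Y.Opens) (z : (f ⁻¹ᵁ U : X.Opens)) :
    ((f ∣_ U) z).1 = f z.1 :=
  congrArg (fun m : ((f ⁻¹ᵁ U : X.Opens) : Scheme.{u}) ⟶ Y => m z) (morphismRestrict_ι f U)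

/-- Preimages of locally constructible sets under morphisms of schemes. -/
theorem isLocallyConstructible_preimage (f : X ⟶ Y) {s : Set Y} (hs : IsLocallyConstructible s) :
    IsLocallyConstructible (f ⁻¹' s) := by
  intro x
  obtain ⟨U, hU, hxU, -⟩ :=
    exists_isAffineOpen_mem_and_subset (X := Y) (x := f x) (U := ⊤) trivial
  haveI : IsAffine (U : Scheme.{u}) := hU
  have h1 : IsConstructible (U.ι ⁻¹' s) :=
    (hs.preimage_of_isOpenEmbedding U.ι.isOpenEmbedding).isConstructible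
  refine ⟨(f ⁻¹ᵁ U : X.Opens), (f ⁻¹ᵁ U).2.mem_nhds hxU, (f ⁻¹ᵁ U).2, ?_⟩
  refine (congrArg IsConstructible (Set.ext fun z => ?_)).mp ((f ∣_ U).isConstructible_preimage h1)
  exact iff_of_eq (congrArg (fun a => a ∈ s) (restrict_apply f U z))

theorem isIndConstructible_preimage (f : X ⟶ Y) {T : Set Y} (hT : ProCons.IsIndConstructible T) :
    ProCons.IsIndConstructible (f ⁻¹' T) := by
  intro x
  obtain ⟨U, hU, hxU, S, hS, hTS⟩ := hT (f x)
  let U' : Y.Opens := ⟨U, hU⟩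
  refine ⟨(f ⁻¹ᵁ U' : X.Opens), (f ⁻¹ᵁ U').2, hxU, (fun t => (f ∣_ U') ⁻¹' t) '' S, ?_, ?_⟩
  · rintro _ ⟨t, ht, rfl⟩
    exact (isLocallyConstructible_preimage (f ∣_ U') (hS t ht) :)
  · ext z
    show f z.1 ∈ T ↔ _
    rw [show f z.1 ∈ T ↔ (f ∣_ U') z ∈ (Subtype.val ⁻¹' T : Set ↥U) from
      iff_of_eq (congrArg (fun a => a ∈ T) (restrict_apply f U' z)).symm, hTS]
    exact ⟨fun ⟨t, ht, h⟩ => ⟨_, ⟨t, ht, rfl⟩, h⟩, fun ⟨_, ⟨t, ht, rfl⟩, h⟩ => ⟨t, ht, h⟩⟩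

theorem isProConstructible_preimage (f : X ⟶ Y) {T : Set Y} (hT : ProCons.IsProConstructible T) :
    ProCons.IsProConstructible (f ⁻¹' T) := by
  intro x
  obtain ⟨U, hU, hxU, S, hS, hTS⟩ := hT (f x)
  let U' : Y.Opens := ⟨U, hU⟩
  refine ⟨(f ⁻¹ᵁ U' : X.Opens), (f ⁻¹ᵁ U').2, hxU, (fun t => (f ∣_ U') ⁻¹' t) '' S, ?_, ?_⟩
  · rintro _ ⟨t, ht, rfl⟩
    exact (isLocallyConstructible_preimage (f ∣_ U') (hS t ht) :)
  · ext z
    show f z.1 ∈ T ↔ _
    rw [show f z.1 ∈ T ↔ (f ∣_ U') z ∈ (Subtype.val ⁻¹' T : Set ↥U) from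
      iff_of_eq (congrArg (fun a => a ∈ T) (restrict_apply f U' z)).symm, hTS]
    exact ⟨fun h _ ⟨t, ht, e⟩ => e ▸ h t ht, fun h t ht => h _ ⟨t, ht, rfl⟩⟩

theorem isIndConstructible_compl {Z : Type*} [TopologicalSpace Z] {T : Set Z}
    (hT : ProCons.IsProConstructible T) : ProCons.IsIndConstructible Tᶜ := by
  intro x
  obtain ⟨U, hU, hxU, S, hS, hTS⟩ := hT x
  refine ⟨U, hU, hxU, compl '' S, ?_, by rw [Set.preimage_compl, hTS, Set.compl_sInter]⟩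
  rintro _ ⟨t, ht, rfl⟩
  intro z
  obtain ⟨V, hVz, hV, hVt⟩ := hS t ht z
  exact ⟨V, hVz, hV, by rw [Set.preimage_compl]; exact isConstructible_compl.2 hVt⟩

/-- An ind-constructible subset of an affine scheme contains a constructible neighbourhood of each of
its points. -/
theorem exists_constructible_of_isIndConstructible {A : CommRingCat.{u}} {T : Set (Spec A)}
    (hT : ProCons.IsIndConstructible T) {p : Spec A} (hp : p ∈ T) :
    ∃ C : Set (Spec A), IsConstructible C ∧ p ∈ C ∧ C ⊆ T := by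
  obtain ⟨U, hU, hpU, S, hS, hTS⟩ := hT p
  let U' : (Spec A).Opens := ⟨U, hU⟩
  obtain ⟨W, hW, hpW, hWU⟩ :=
    exists_isAffineOpen_mem_and_subset (X := Spec A) (x := p) (U := U') hpU
  have hWU' : W ≤ U' := hWU
  obtain ⟨t, ht, hpt⟩ := Set.mem_sUnion.1 (hTS.subset (show (⟨p, hpU⟩ : U) ∈ Subtype.val ⁻¹' T from hp))
  haveI : IsAffine (W : Scheme.{u}) := hW
  let e : (W : Scheme.{u}) ⟶ (U' : Scheme.{u}) := (Spec A).homOfLE hWU'
  have he : ∀ w, (e w).1 = w.1 := fun w =>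
    congrArg (fun m : (W : Scheme.{u}) ⟶ Spec A => m w) ((Spec A).homOfLE_ι hWU')
  have h0 : IsLocallyConstructible (X := (U' : Scheme.{u})) t := hS t ht
  have h1 : IsConstructible (e ⁻¹' t) := (isLocallyConstructible_preimage e h0).isConstructible
  refine ⟨W.ι '' (e ⁻¹' t),
    h1.image_of_isOpenEmbedding W.ι.isOpenEmbedding ?_, ⟨⟨p, hpW⟩, ?_, rfl⟩, ?_⟩
  · rw [show Set.range W.ι = (W : Set (Spec A)) from W.range_ι]
    exact hW.isCompact.isRetrocompact W.2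
  · have : e ⟨p, hpW⟩ = (⟨p, hpU⟩ : U) := Subtype.ext (he _)
    show e ⟨p, hpW⟩ ∈ t
    exact this.symm ▸ hpt
  · rintro _ ⟨w, hw, rfl⟩
    have h2 : (e w : ↥U) ∈ (Subtype.val ⁻¹' T : Set ↥U) :=
      hTS.superset (Set.mem_sUnion.2 ⟨t, ht, hw⟩)
    exact (congrArg (fun a => a ∈ T) (he w)).mp h2

end Groth.Agent.ConsH13
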