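import Groth.Agent.Lib.LimH13.Top
import Groth.Agent.Lib.FibreTop.Strata
import Groth.Agent.Lib.ConsH13.Topo

/-!
# An ind-constructible set containing the image of a limit contains the image of a stage
-/

universe u

open CategoryTheory CategoryTheory.Limits AlgebraicGeometry Topology
open Groth.Agent.LimH13

set_option linter.style.haveILetI false
set_option backward.isDefEq.respectTransparency false

namespace Groth.Agent.ConsH13

/-- A constructible set contains a basic one around each of its points. -/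
lemma exists_basic_subset {A : Type u} [CommRing A] {C : Set (PrimeSpectrum A)} (hC : IsConstructible C)
    {p : PrimeSpectrum A} (hp : p ∈ C) :
    ∃ d : PrimeSpectrum.BasicConstructibleSetData A, p ∈ d.toSet ∧ d.toSet ⊆ C := by
  obtain ⟨D, rfl⟩ := PrimeSpectrum.exists_constructibleSetData_iff.2 hC
  rw [PrimeSpectrum.ConstructibleSetData.toSet] at hp
  obtain ⟨d, hdD, hpd⟩ := Set.mem_iUnion₂.1 hp
  exact ⟨d, hpd, fun q hq => Set.mem_iUnion₂.2 ⟨d, hdD, hq⟩⟩

/-- A prime outside the image of a map of spectra has a basic constructible neighbourhood outside. -/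
lemma exists_basic_disjoint_range {A B : Type u} [CommRing A] [CommRing B] (f : A →+* B)
    {p : PrimeSpectrum A} (hp : p ∉ Set.range (PrimeSpectrum.comap f)) :
    ∃ d : PrimeSpectrum.BasicConstructibleSetData A, p ∈ d.toSet ∧
      Disjoint d.toSet (Set.range (PrimeSpectrum.comap f)) := by
  classical
  rw [PrimeSpectrum.mem_range_comap_iff] at hp
  obtain ⟨s, hs, hsp⟩ : ∃ s, f s ∈ p.asIdeal.map f ∧ s ∉ p.asIdeal := by
    by_contra h
    simp only [not_exists, not_and, not_not] at h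
    exact hp (le_antisymm (fun x hx => h x hx) Ideal.le_comap_map)
  obtain ⟨T, hT, hTs⟩ := Submodule.mem_span_finite_of_mem_span hs
  obtain ⟨U, hU, rfl⟩ := Finset.subset_set_image_iff.1 hT
  refine ⟨⟨s, U.toList.length, fun i => U.toList[i]⟩, ?_, ?_⟩
  · simp only [PrimeSpectrum.BasicConstructibleSetData.toSet, Set.mem_sdiff, PrimeSpectrum.mem_zeroLocus,
      Set.singleton_subset_iff, SetLike.mem_coe]
    refine ⟨?_, hsp⟩
    rintro _ ⟨i, rfl⟩
    exact hU (Finset.mem_toList.1 (List.getElem_mem _))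
  · rw [Set.disjoint_left]
    rintro _ hq ⟨Q, rfl⟩
    simp only [PrimeSpectrum.BasicConstructibleSetData.toSet, Set.mem_sdiff, PrimeSpectrum.mem_zeroLocus,
      Set.singleton_subset_iff, SetLike.mem_coe] at hq
    refine hq.2 (show f s ∈ Q.asIdeal from (Submodule.span_le (p := Q.asIdeal)).2 ?_ hTs)
    intro b hb
    obtain ⟨a, ha, rfl⟩ := Finset.mem_image.1 (Finset.mem_coe.1 hb)
    obtain ⟨i, hi, rfl⟩ := List.getElem_of_mem (Finset.mem_toList.2 ha)
    exact hq.1 ⟨⟨i, hi⟩, rfl⟩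

variable {I : Type u} [SmallCategory I] [IsCofiltered I] {D : I ⥤ Scheme.{u}} {c : Cone D}
  [∀ {i j : I} (a : i ⟶ j), IsAffineHom (D.map a)]

/-- The affine case. -/
lemma exists_stage_of_affine (hc : IsLimit c) (i : I) (E : Set (D.obj i)) (A : CommRingCat.{u})
    (σ : Spec A ⟶ D.obj i)
    (hE : ∀ p ∈ σ ⁻¹' E, ∃ C : Set (Spec A), IsConstructible C ∧ p ∈ C ∧ C ⊆ σ ⁻¹' E)
    (h : Set.range (c.π.app i) ⊆ E) :
    ∃ (j : I) (φ : j ⟶ i), Set.range (D.map φ) ∩ Set.range σ ⊆ E := by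
  classical
  have key : ∀ p : PrimeSpectrum A, ∃ (d : PrimeSpectrum.BasicConstructibleSetData A) (j : I) (φ : j ⟶ i),
      p ∈ d.toSet ∧ ∀ q ∈ d.toSet, σ q ∈ Set.range (D.map φ) → σ q ∈ E := by
    intro p
    by_cases hp : σ p ∈ E
    · obtain ⟨C, hC, hpC, hCE⟩ := hE p hp
      obtain ⟨d, hd, hdC⟩ := exists_basic_subset hC hpC
      exact ⟨d, i, 𝟙 i, hd, fun q hq _ => hCE (hdC hq)⟩
    · have hp' : σ p ∉ Set.range (c.π.app i) := fun h' => hp (h h')
      rw [range_π_eq hc i] at hp'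
      simp only [Set.mem_iInter, not_forall] at hp'
      obtain ⟨j, φ, hjφ⟩ := hp'
      haveI : IsAffineHom (pullback.fst σ (D.map φ)) :=
        MorphismProperty.pullback_fst _ _ inferInstance
      haveI : IsAffine (pullback σ (D.map φ)) := isAffine_of_isAffineHom (pullback.fst σ (D.map φ))
      let g := (pullback σ (D.map φ)).isoSpec.inv ≫ pullback.fst σ (D.map φ)
      have hg : ∀ q, q ∈ Set.range g ↔ σ q ∈ Set.range (D.map φ) := by
        intro q
        have h1 : Set.range g = Set.range (pullback.fst σ (D.map φ)) :=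
          Set.ext fun z => ⟨fun ⟨w, hw⟩ => ⟨_, hw⟩, fun ⟨w, hw⟩ => ⟨(pullback σ (D.map φ)).isoSpec.hom w, by
            rw [← hw, ← Scheme.Hom.comp_apply]; simp [g]⟩⟩
        rw [h1, Scheme.Pullback.range_fst]
        rfl
      obtain ⟨f, hf⟩ := Spec.map_surjective g
      obtain ⟨d, hd, hdis⟩ := exists_basic_disjoint_range (p := p) f.hom (by
        rw [← hf] at hg
        exact fun h' => hjφ ((hg p).1 h'))
      refine ⟨d, j, φ, hd, fun q hq hq' => ?_⟩
      rw [← hf] at hg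
      exact absurd ((hg q).2 hq') (Set.disjoint_left.1 hdis hq)
  choose d j φ hd hdE using key
  obtain ⟨t, ht⟩ := Groth.Agent.FibreTop.exists_finite_cover_of_toSet d hd
  obtain ⟨k, ψ, g, hg⟩ := IsCofiltered.wideCospan (fun p : t => φ p.1)
  refine ⟨k, ψ, ?_⟩
  rintro _ ⟨⟨w, rfl⟩, q, hq⟩
  obtain ⟨p, hpt, hqp⟩ := ht q
  rw [← hq]
  refine hdE p q hqp ⟨D.map (g ⟨p, hpt⟩) w, ?_⟩
  rw [← Scheme.Hom.comp_apply, ← D.map_comp, hg ⟨p, hpt⟩, hq]

/-- An ind-constructible set containing the image of the limit contains that of some stage. -/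
theorem exists_stage_range_subset (hc : IsLimit c) (i : I) [CompactSpace (D.obj i)] (E : Set (D.obj i))
    (hE : ∀ (A : CommRingCat.{u}) (σ : Spec A ⟶ D.obj i) (_ : IsOpenImmersion σ), ∀ p ∈ σ ⁻¹' E,
      ∃ C : Set (Spec A), IsConstructible C ∧ p ∈ C ∧ C ⊆ σ ⁻¹' E)
    (h : Set.range (c.π.app i) ⊆ E) :
    ∃ (j : I) (φ : j ⟶ i), Set.range (D.map φ) ⊆ E := by
  classical
  let 𝒰 := (D.obj i).affineCover.finiteSubcover
  have key : ∀ k : 𝒰.I₀, ∃ (j : I) (φ : j ⟶ i), Set.range (D.map φ) ∩ Set.range (𝒰.f k) ⊆ E := by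
    intro k
    haveI : IsAffine (𝒰.X k) := inferInstanceAs (IsAffine ((D.obj i).affineCover.X _))
    obtain ⟨j, φ, hjφ⟩ := exists_stage_of_affine hc i E _ ((𝒰.X k).isoSpec.inv ≫ 𝒰.f k)
      (hE _ _ inferInstance) h
    refine ⟨j, φ, fun y hy => hjφ ⟨hy.1, ?_⟩⟩
    obtain ⟨x, rfl⟩ := hy.2
    exact ⟨(𝒰.X k).isoSpec.hom x, by rw [← Scheme.Hom.comp_apply]; simp⟩
  choose j φ hjφ using key
  obtain ⟨k, ψ, g, hg⟩ := IsCofiltered.wideCospan φ
  refine ⟨k, ψ, ?_⟩
  rintro _ ⟨w, rfl⟩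
  obtain ⟨l, x, hx⟩ := 𝒰.exists_eq (D.map ψ w)
  refine hjφ l ⟨⟨D.map (g l) w, ?_⟩, x, hx⟩
  rw [← Scheme.Hom.comp_apply, ← D.map_comp, hg l]

end Groth.Agent.ConsH13
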