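import Groth.Agent.Lib.ConsH13.Engine
import Groth.Agent.Lib.ConsH13.IndCons
import Groth.Agent.Lib.ConsH13.Limit
import Groth.Agent.Lib.ModLimH13.Noeth
import Groth.Agent.Lib.Descend.Basic
import Groth.Agent.Lib.FibDim4.GenericFP

/-!
# Loci of constructible properties involving a module
-/

universe u

open CategoryTheory CategoryTheory.Limits AlgebraicGeometry Topology Opposite
open Groth.Agent.LimH13

set_option linter.style.haveILetI false
set_option backward.isDefEq.respectTransparency false

namespace Groth.Agent.ConsH13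

variable {P : ∀ ⦃Y T : Scheme.{u}⦄, (Y ⟶ T) → Y.Modules → Prop}

/-- The locus of a field stable property with a module commutes with base change. -/
theorem preimage_locusMod (hP : ConsProp.IsFieldStableMod P) {X X' S S' : Scheme.{u}} {u : X ⟶ S}
    [LocallyOfFiniteType u] [QuasiCompact u] {u' : X' ⟶ S'} {p : X' ⟶ X} {h : S' ⟶ S}
    (H : IsPullback p u' u h) {F : X.Modules} (hF : Coh.IsCoh F) (F' : X'.Modules)
    (e : F' ≅ (Scheme.Modules.pullback p).obj F) :
    h ⁻¹' ConsProp.locusMod P u F = ConsProp.locusMod P u' F' := by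
  ext s
  haveI : LocallyOfFiniteType (u.fiberToSpecResidueField (h s)) :=
    MorphismProperty.pullback_snd _ _ inferInstance
  haveI : QuasiCompact (u.fiberToSpecResidueField (h s)) :=
    MorphismProperty.pullback_snd _ _ inferInstance
  let i : (Scheme.Modules.pullback (u'.fiberι s)).obj F' ≅
      (Scheme.Modules.pullback (baseFibre H s)).obj ((Scheme.Modules.pullback (u.fiberι (h s))).obj F) :=
    (Scheme.Modules.pullback (u'.fiberι s)).mapIso e ≪≫
      (Scheme.Modules.pullbackComp (u'.fiberι s) p).app F ≪≫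
      ((ModLimH13.cmp (baseFibre H s) (u.fiberι (h s)) (baseFibre_fst H s)).app F).symm
  exact hP _ _ _ _ (isPullback_fiberToSpecResidueField_of_isPullback H s) _ _
    (M1.isCoh_pullback _ hF) i

theorem isConstructible_locusMod_noeth (hP : ConsProp.IsConsMod P) {R : CommRingCat.{u}}
    [IsNoetherianRing R] {X : Scheme.{u}} (u : X ⟶ Spec R) [LocallyOfFiniteType u] [QuasiCompact u]
    {F : X.Modules} (hF : Coh.IsCoh F) : IsConstructible (ConsProp.locusMod P u F) := by
  refine isConstructible_of_integral _ fun W i _ _ _ => ?_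
  rw [preimage_locusMod hP.1 (IsPullback.of_hasPullback u i) hF _ (Iso.refl _)]
  exact hP.2 _ _ (M1.isCoh_pullback _ hF)

theorem exists_constructible_locusMod_noeth (hP : ConsProp.IsIndConsMod P) {R : CommRingCat.{u}}
    [IsNoetherianRing R] {X : Scheme.{u}} (u : X ⟶ Spec R) [LocallyOfFiniteType u] [QuasiCompact u]
    {F : X.Modules} (hF : Coh.IsCoh F) {x : Spec R} (hx : x ∈ ConsProp.locusMod P u F) :
    ∃ C : Set (Spec R), IsConstructible C ∧ x ∈ C ∧ C ⊆ ConsProp.locusMod P u F := by
  refine exists_constructible_of_integral _ (fun W i _ _ _ => ?_) hx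
  rw [preimage_locusMod hP.1 (IsPullback.of_hasPullback u i) hF _ (Iso.refl _)]
  exact hP.2 _ _ (M1.isCoh_pullback _ hF)

/-- A scheme of finite presentation with a module of finite presentation over an affine scheme comes
from a noetherian one. -/
theorem exists_noetherian_model_mod (A : CommRingCat.{u}) {X : Scheme.{u}} (u : X ⟶ Spec A)
    [LocallyOfFinitePresentation u] [QuasiCompact u] [QuasiSeparated u]
    (F : X.Modules) [Coh.IsQCoh F] (hF : CohB1.IsFP F) :
    ∃ (R : CommRingCat.{u}) (_ : IsNoetherianRing R) (π : Spec A ⟶ Spec R) (X' : Scheme.{u})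
      (u' : X' ⟶ Spec R) (q : X ⟶ X') (F' : X'.Modules),
      LocallyOfFiniteType u' ∧ QuasiCompact u' ∧ IsPullback q u u' π ∧ Coh.IsCoh F' ∧
        Nonempty (F ≅ (Scheme.Modules.pullback q).obj F') := by
  let c := approxCone A
  have hc : IsLimit c := isLimitApproxCone A
  haveI : CompactSpace X := QuasiCompact.compactSpace_of_compactSpace u
  haveI : QuasiSeparatedSpace X := quasiSeparatedSpace_of_quasiSeparated u
  obtain ⟨i, X₀, u₀, qX, h1, h2, h3, h4⟩ :=
    hasModel_of_finitePresentation hc (X := X) (u : X ⟶ c.pt)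
  let D := approxDiagram A
  let F₀ := Over.forget i
  let D' : Over i ⥤ Scheme.{u} := F₀ ⋙ D
  let c' : Cone D' := c.whisker F₀
  have hc' : IsLimit c' := (Functor.Initial.isLimitWhiskerEquiv F₀ c).symm hc
  let t : D' ⟶ (Functor.const (Over i)).obj (D.obj i) :=
    { app := fun k => D.map k.hom
      naturality := fun k l a => by
        show D.map a.left ≫ D.map l.hom = D.map k.hom ≫ 𝟙 _
        rw [← D.map_comp, Over.w, Category.comp_id] }
  have hq : ∀ k, c'.π.app k ≫ t.app k = c.π.app i := fun k => c.w k.hom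
  haveI : ∀ k, IsAffineHom (t.app k) := fun k => (inferInstanceAs (IsAffineHom (D.map k.hom)))
  haveI : ∀ (k l : Over i) (a : k ⟶ l), IsAffineHom ((Descend.pbDiagram D' t u₀).map a) :=
    fun k l a => Descend.pb_isAffineHom_map D' t u₀ a
  let e := Descend.pbCone D' t u₀ c' hq h4
  have he : IsLimit e := Descend.pbIsLimit D' t u₀ c' hq h4 hc'
  have hnoeth : ∀ k : Over i, IsNoetherianRing ((subFunctor A).obj k.left.unop) := fun k => inferInstance
  haveI : ∀ k : Over i, IsLocallyNoetherian ((Descend.pbDiagram D' t u₀).obj k) := fun k => by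
    haveI : IsLocallyNoetherian (D'.obj k) :=
      inferInstanceAs (IsLocallyNoetherian (Spec ((subFunctor A).obj k.left.unop)))
    exact LocallyOfFiniteType.isLocallyNoetherian (pullback.snd u₀ (t.app k))
  obtain ⟨k, -, Fk, hFk, hFkp, ⟨ei⟩⟩ :=
    ModLimH13.exists_module_descend_noetherian he (i₀ := Over.mk (𝟙 i)) (F : e.pt.Modules) hF
  refine ⟨(subFunctor A).obj k.left.unop, hnoeth k, c'.π.app k, _, pullback.snd u₀ (t.app k),
    e.π.app k, Fk, inferInstanceAs (LocallyOfFiniteType (pullback.snd u₀ (t.app k))), ?_,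
    Descend.pbCone_isPullback D' t u₀ c' hq h4 k, ⟨hFk, M1.isFP_isFT hFkp⟩, ⟨ei.symm⟩⟩
  haveI : CompactSpace ((Descend.pbDiagram D' t u₀).obj k) := inferInstance
  exact (HasAffineProperty.iff_of_isAffine (P := @QuasiCompact)).2 ‹CompactSpace ((Descend.pbDiagram D' t u₀).obj k)›

variable {X S : Scheme.{u}} (u : X ⟶ S) [LocallyOfFinitePresentation u] [QuasiCompact u]
  [QuasiSeparated u] (F : X.Modules) [Coh.IsQCoh F] (hF : CohB1.IsFP F)

include hF in
theorem isLocallyConstructible_locusMod (hP : ConsProp.IsConsMod P) :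
    IsLocallyConstructible (ConsProp.locusMod P u F) := by
  refine isLocallyConstructible_of_affine _ fun A σ _ => ?_
  rw [preimage_locusMod hP.1 (IsPullback.of_hasPullback u σ) ⟨‹Coh.IsQCoh F›, M1.isFP_isFT hF⟩ _
    (Iso.refl _)]
  haveI := M1.isQCoh_pullback (pullback.fst u σ) (M := F) ‹_›
  obtain ⟨R, hR, π, X', u', q, F', i1, i2, sq, hF', ⟨e⟩⟩ := exists_noetherian_model_mod A
    (pullback.snd u σ) _ (M1.isFP_pullback (pullback.fst u σ) hF)
  rw [← preimage_locusMod hP.1 sq hF' _ e]
  exact π.isConstructible_preimage (isConstructible_locusMod_noeth hP u' hF')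

include hF in
/-- Around each point of the locus, on an affine base. -/
theorem exists_constructible_locusMod (hP : ConsProp.IsIndConsMod P)
    (A : CommRingCat.{u}) (σ : Spec A ⟶ S) {p : Spec A}
    (hp : p ∈ σ ⁻¹' ConsProp.locusMod P u F) :
    ∃ C : Set (Spec A), IsConstructible C ∧ p ∈ C ∧ C ⊆ σ ⁻¹' ConsProp.locusMod P u F := by
  rw [preimage_locusMod hP.1 (IsPullback.of_hasPullback u σ) ⟨‹Coh.IsQCoh F›, M1.isFP_isFT hF⟩ _
    (Iso.refl _)] at hp ⊢
  haveI := M1.isQCoh_pullback (pullback.fst u σ) (M := F) ‹_›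
  obtain ⟨R, hR, π, X', u', q, F', i1, i2, sq, hF', ⟨e⟩⟩ := exists_noetherian_model_mod A
    (pullback.snd u σ) _ (M1.isFP_pullback (pullback.fst u σ) hF)
  rw [← preimage_locusMod hP.1 sq hF' _ e] at hp ⊢
  obtain ⟨C, hC, hpC, hCE⟩ := exists_constructible_locusMod_noeth hP u' hF' hp
  exact ⟨π ⁻¹' C, π.isConstructible_preimage hC, hpC, Set.preimage_mono hCE⟩

/-- A constructible set containing the generic point contains a neighbourhood of it. -/
theorem genericPoint_mem_interior {S : Scheme.{u}} [IrreducibleSpace S] {A : CommRingCat.{u}}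
    (σ : Spec A ⟶ S) [IsOpenImmersion σ] {p : Spec A} (hσ : σ p = genericPoint S) {C : Set (Spec A)}
    (hC : IsConstructible C) (hp : p ∈ C) {E : Set S} (hCE : C ⊆ σ ⁻¹' E) :
    genericPoint S ∈ interior E := by
  have hη : ∀ U : Set (Spec A), IsOpen U → U.Nonempty → p ∈ U := fun U hU hne => by
    obtain ⟨z, hz, hzp⟩ := ((genericPoint_spec S).mem_open_set_iff (σ.isOpenEmbedding.isOpenMap U hU)).2
      (by simpa using hne.image σ)
    rw [← hσ] at hzp
    exact σ.isOpenEmbedding.injective hzp ▸ hz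
  obtain ⟨O, hO, hpO, hOC⟩ := FibDim4.exists_open_subset_of_isConstructible hC hη hp
  refine interior_maximal ?_ (σ.isOpenEmbedding.isOpenMap O hO) ⟨p, hpO, hσ⟩
  rintro _ ⟨z, hz, rfl⟩
  exact hCE (hOC hz)

end Groth.Agent.ConsH13
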