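import Mathlib.AlgebraicGeometry.Noetherian
import Mathlib.AlgebraicGeometry.Morphisms.Affine
import Mathlib.Algebra.Category.Ring.FilteredColimits
import Mathlib.Algebra.Category.Ring.Constructions
import Mathlib.RingTheory.Adjoin.FG
import Mathlib.RingTheory.FiniteType
import Mathlib.CategoryTheory.Limits.Types.Filtered

/-!
# An affine scheme as a limit of affine schemes of finite type over the integers
-/

universe u

open CategoryTheory CategoryTheory.Limits AlgebraicGeometry Opposite

set_option linter.style.haveILetI false

namespace Groth.Agent.ConsH13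

variable (A : Type u) [CommRing A]

/-- The finitely generated subrings of `A`. -/
abbrev FGSub : Type u := {S : Subalgebra ℤ A // S.FG}

instance : SemilatticeSup (FGSub A) := Subtype.semilatticeSup fun _ _ hS hT => Subalgebra.FG.sup hS hT

instance : Nonempty (FGSub A) := ⟨⟨⊥, Subalgebra.fg_bot⟩⟩

/-- The system of finitely generated subrings. -/
noncomputable def subFunctor : FGSub A ⥤ CommRingCat.{u} where
  obj S := CommRingCat.of S.1
  map {S T} h := CommRingCat.ofHom (Subalgebra.inclusion (leOfHom h : S.1 ≤ T.1)).toRingHom

/-- The ring as a cocone on its finitely generated subrings. -/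
noncomputable def subCocone : Cocone (subFunctor A) where
  pt := CommRingCat.of A
  ι :=
    { app := fun S => CommRingCat.ofHom S.1.val.toRingHom
      naturality := fun _ _ _ => rfl }

/-- A ring is the colimit of its finitely generated subrings. -/
noncomputable def isColimitSubCocone : IsColimit (subCocone A) :=
  haveI : ReflectsColimit (subFunctor A) (forget CommRingCat.{u}) :=
    reflectsColimit_of_reflectsIsomorphisms _ _
  isColimitOfReflects (forget CommRingCat.{u}) <| Types.FilteredColimit.isColimitOf' _ _
    (fun (a : A) => ⟨⟨Algebra.adjoin ℤ {a}, Subalgebra.fg_adjoin_finset {a} |> fun h => by simpa using h⟩,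
      ⟨a, Algebra.subset_adjoin rfl⟩, rfl⟩)
    (fun S x y h => ⟨S, 𝟙 S, by
      have : x = y := Subtype.ext h
      rw [this]⟩)

/-- The limit system of the spectra of the finitely generated subrings. -/
noncomputable def approxDiagram : (FGSub A)ᵒᵖ ⥤ Scheme.{u} := (subFunctor A).op ⋙ Scheme.Spec

/-- The spectrum of a ring as a cone over the approximations. -/
noncomputable def approxCone : Cone (approxDiagram A) := Scheme.Spec.mapCone (subCocone A).op

/-- The spectrum of a ring is the limit of the approximations. -/
noncomputable def isLimitApproxCone : IsLimit (approxCone A) :=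
  isLimitOfPreserves Scheme.Spec (isColimitSubCocone A).op

instance (S : (FGSub A)ᵒᵖ) : IsNoetherianRing ((subFunctor A).obj S.unop) :=
  haveI : Algebra.FiniteType ℤ S.unop.1 := (Subalgebra.fg_iff_finiteType _).1 S.unop.2
  Algebra.FiniteType.isNoetherianRing ℤ S.unop.1

instance (S : (FGSub A)ᵒᵖ) : IsAffine ((approxDiagram A).obj S) :=
  inferInstanceAs (IsAffine (Spec _))

instance (S : (FGSub A)ᵒᵖ) : AlgebraicGeometry.IsNoetherian ((approxDiagram A).obj S) :=
  inferInstanceAs (AlgebraicGeometry.IsNoetherian (Spec ((subFunctor A).obj S.unop)))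

instance {S T : (FGSub A)ᵒᵖ} (a : S ⟶ T) : IsAffineHom ((approxDiagram A).map a) :=
  isAffineHom_of_isAffine _

end Groth.Agent.ConsH13
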