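import Groth.Agent.Lib.ConsH13.Apps

/-!
# Relations holding on all fibres of a morphism
-/

universe u

open CategoryTheory CategoryTheory.Limits AlgebraicGeometry Topology TopologicalSpace

set_option linter.style.haveILetI false
set_option backward.isDefEq.respectTransparency false

namespace Groth.Agent.ConsH13

variable {P : ∀ ⦃Y T : Scheme.{u}⦄, (Y ⟶ T) → Prop}

theorem isFieldStableMor_forall_fiber (hP : ConsProp.IsFieldStable P) :
    ConsProp.IsFieldStableMor (fun _ Y _ f _ => ∀ y : ↥Y, P (f.fiberToSpecResidueField y)) := by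
  intro X X' Y Y' T T' f g f' g' eX eY k _ _ _ _ _ _ _ _ hY hX
  haveI : LocallyOfFiniteType f := locallyOfFiniteType_of_comp f g
  haveI : IsLocallyNoetherian T :=
    haveI := isIso_fromSpecResidueField_of_subsingleton T (Classical.arbitrary T)
    isLocallyNoetherian_of_isOpenImmersion (inv (T.fromSpecResidueField (Classical.arbitrary T)))
  haveI : IsLocallyNoetherian Y := LocallyOfFiniteType.isLocallyNoetherian g
  haveI : QuasiCompact f := QuasiCompact.of_comp f g
  haveI : Surjective eY :=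
    MorphismProperty.of_isPullback (P := @Surjective) hY.flip (fpqc_of_subsingleton k).1.1
  have key := preimage_locus hP (u := f) hX
  constructor
  · exact fun h y' => (Set.ext_iff.1 key y').1 (h (eY y'))
  · intro h y
    obtain ⟨y', rfl⟩ := eY.surjective y
    exact (Set.ext_iff.1 key y').2 (h y')

/-- The locus of a single relation on the affine opens of a noetherian scheme. -/
lemma preimage_locus_affine {X Y : Scheme.{u}} (hP : ConsProp.IsFieldStable P) (f : X ⟶ Y)
    [LocallyOfFiniteType f] [QuasiCompact f] {R : CommRingCat.{u}} (σ : Spec R ⟶ Y)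
    (W : Scheme.{u}) (i : W ⟶ Spec R) :
    i ⁻¹' (σ ⁻¹' ConsProp.locus P f) =
      ConsProp.locus P (pullback.snd (pullback.snd f σ) i) := by
  rw [preimage_locus hP (IsPullback.of_hasPullback f σ),
    preimage_locus hP (IsPullback.of_hasPullback (pullback.snd f σ) i)]

lemma isLocallyConstructible_locus_noeth (hP : ConsProp.IsCons P) {X Y : Scheme.{u}} [IsLocallyNoetherian Y]
    (f : X ⟶ Y) [LocallyOfFiniteType f] [QuasiCompact f] :
    IsLocallyConstructible (ConsProp.locus P f) := by
  refine isLocallyConstructible_of_affine _ fun A σ _ => ?_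
  haveI : IsNoetherianRing A := by
    haveI : IsLocallyNoetherian (Spec A) := isLocallyNoetherian_of_isOpenImmersion σ
    exact isLocallyNoetherian_Spec.1 inferInstance
  refine isConstructible_of_integral _ fun W i _ _ _ => ?_
  rw [preimage_locus_affine hP.1 f σ W i]
  exact hP.2 _

lemma exists_constructible_locus_noeth (hP : ConsProp.IsIndCons P) {X Y : Scheme.{u}} [IsLocallyNoetherian Y]
    (f : X ⟶ Y) [LocallyOfFiniteType f] [QuasiCompact f] (A : CommRingCat.{u}) (σ : Spec A ⟶ Y)
    [IsOpenImmersion σ] {p : Spec A} (hp : p ∈ σ ⁻¹' ConsProp.locus P f) :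
    ∃ C : Set (Spec A), IsConstructible C ∧ p ∈ C ∧ C ⊆ σ ⁻¹' ConsProp.locus P f := by
  haveI : IsNoetherianRing A := by
    haveI : IsLocallyNoetherian (Spec A) := isLocallyNoetherian_of_isOpenImmersion σ
    exact isLocallyNoetherian_Spec.1 inferInstance
  refine exists_constructible_of_integral _ (fun W i _ _ _ => ?_) hp
  rw [preimage_locus_affine hP.1 f σ W i]
  exact hP.2 _

lemma mem_locusMor_forall_fiber (hP : ConsProp.IsFieldStable P) {X Y S : Scheme.{u}} (f : X ⟶ Y)
    (g : Y ⟶ S) [LocallyOfFiniteType f] [QuasiCompact f] (s : S) :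
    s ∈ ConsProp.locusMor (fun _ Y _ f _ => ∀ y : ↥Y, P (f.fiberToSpecResidueField y)) f g ↔
      ∀ y, g y = s → y ∈ ConsProp.locus P f := by
  have key := preimage_locus hP (u := f) (isPullback_fiberMap f g s)
  constructor
  · intro h y hy
    obtain ⟨z, rfl⟩ : y ∈ Set.range (g.fiberι s) := by
      rw [Scheme.Hom.range_fiberι]; exact hy
    exact (Set.ext_iff.1 key z).2 (h z)
  · intro h z
    refine (Set.ext_iff.1 key z).1 (h _ ?_)
    have : g.fiberι s z ∈ Set.range (g.fiberι s) := ⟨z, rfl⟩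
    rwa [Scheme.Hom.range_fiberι] at this

theorem isConsMor_forall_fiber (hP : ConsProp.IsCons P) :
    ConsProp.IsConsMor (fun _ Y _ f _ => ∀ y : ↥Y, P (f.fiberToSpecResidueField y)) := by
  refine ⟨isFieldStableMor_forall_fiber hP.1, fun X Y S f g _ _ _ _ _ _ => ?_⟩
  haveI : IsLocallyNoetherian Y := LocallyOfFiniteType.isLocallyNoetherian g
  haveI : LocallyOfFiniteType f := locallyOfFiniteType_of_comp f g
  haveI : QuasiCompact f := QuasiCompact.of_comp f g
  refine interior_nonempty_or_of_isLocallyConstructible ?_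
  have h1 := g.isLocallyConstructible_image
    (AnPtsTop.isLocallyConstructible_compl (isLocallyConstructible_locus_noeth hP f))
  refine (congrArg IsLocallyConstructible (Set.ext fun s => ?_)).mp (AnPtsTop.isLocallyConstructible_compl h1)
  rw [mem_locusMor_forall_fiber hP.1, Set.mem_compl_iff, Set.mem_image]
  exact ⟨fun h y hy => by_contra fun hn => h ⟨y, hn, hy⟩, fun h ⟨y, hn, hy⟩ => hn (h y hy)⟩

theorem isIndConsMor_forall_fiber (hP : ConsProp.IsIndCons P) :
    ConsProp.IsIndConsMor (fun _ Y _ f _ => ∀ y : ↥Y, P (f.fiberToSpecResidueField y)) := by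
  classical
  refine ⟨isFieldStableMor_forall_fiber hP.1, fun X Y S f g _ _ _ _ _ _ hη => ?_⟩
  haveI : IsLocallyNoetherian Y := LocallyOfFiniteType.isLocallyNoetherian g
  haveI : LocallyOfFiniteType f := locallyOfFiniteType_of_comp f g
  haveI : QuasiCompact f := QuasiCompact.of_comp f g
  haveI : CompactSpace Y := QuasiCompact.compactSpace_of_compactSpace g
  rw [mem_locusMor_forall_fiber hP.1] at hη
  let 𝒰 := Y.affineCover.finiteSubcover
  haveI : ∀ l : 𝒰.I₀, IsAffine (𝒰.X l) := fun l => inferInstanceAs (IsAffine (Y.affineCover.X _))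
  have key : ∀ l : 𝒰.I₀, ∃ U : Set S, IsOpen U ∧ genericPoint S ∈ U ∧
      ∀ q, g (((𝒰.X l).isoSpec.inv ≫ 𝒰.f l) q) ∈ U →
        ((𝒰.X l).isoSpec.inv ≫ 𝒰.f l) q ∈ ConsProp.locus P f := by
    intro l
    let σ : Spec Γ(𝒰.X l, ⊤) ⟶ Y := (𝒰.X l).isoSpec.inv ≫ 𝒰.f l
    haveI : IsLocallyNoetherian (Spec Γ(𝒰.X l, ⊤)) := isLocallyNoetherian_of_isOpenImmersion σ
    haveI : IsNoetherianRing Γ(𝒰.X l, ⊤) := isLocallyNoetherian_Spec.1 inferInstance
    have h1 : ∀ p : PrimeSpectrum Γ(𝒰.X l, ⊤), ∃ (U : Set S)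
        (d : PrimeSpectrum.BasicConstructibleSetData Γ(𝒰.X l, ⊤)), IsOpen U ∧ genericPoint S ∈ U ∧
          p ∈ d.toSet ∧ ∀ q ∈ d.toSet, g (σ q) ∈ U → σ q ∈ ConsProp.locus P f := by
      intro p
      by_cases hp : σ p ∈ ConsProp.locus P f
      · obtain ⟨C, hC, hpC, hCE⟩ := exists_constructible_locus_noeth hP f _ σ hp
        obtain ⟨d, hd, hdC⟩ := exists_basic_subset hC hpC
        exact ⟨Set.univ, d, isOpen_univ, trivial, hd, fun q hq _ => hCE (hdC hq)⟩
      · have hne : g (σ p) ≠ genericPoint S := fun h => hp (hη _ h)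
        have hU : genericPoint S ∈ (closure {g (σ p)})ᶜ := fun h =>
          hne ((genericPoint_specializes (g (σ p))).antisymm (specializes_iff_mem_closure.2 h)).eq.symm
        have hc : IsConstructible (X := Spec Γ(𝒰.X l, ⊤)) ((σ ≫ g) ⁻¹' closure {g (σ p)}) :=
          isConstructible_of_isClosed (isClosed_closure.preimage (σ ≫ g).continuous)
        obtain ⟨d, hd, hdC⟩ := exists_basic_subset (p := p) hc (subset_closure rfl)
        exact ⟨_, d, isClosed_closure.isOpen_compl, hU, hd, fun q hq hq' => absurd (hdC hq) hq'⟩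
    choose U d hUo hηU hd hdU using h1
    obtain ⟨t, ht⟩ := Groth.Agent.FibreTop.exists_finite_cover_of_toSet d hd
    refine ⟨⋂ p ∈ t, U p, isOpen_biInter_finset fun p _ => hUo p,
      Set.mem_iInter₂.2 fun p _ => hηU p, fun q hq => ?_⟩
    obtain ⟨p, hpt, hqp⟩ := ht q
    exact hdU p q hqp (Set.mem_iInter₂.1 hq p hpt)
  choose U hUo hηU hU using key
  refine ⟨genericPoint S, interior_maximal (t := ⋂ l, U l) (fun s hs => ?_) (isOpen_iInter_of_finite hUo)
    (Set.mem_iInter.2 hηU)⟩
  rw [mem_locusMor_forall_fiber hP.1]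
  rintro y rfl
  obtain ⟨l, x, rfl⟩ := 𝒰.exists_eq y
  have h := hU l ((𝒰.X l).isoSpec.hom x)
  simp only [Scheme.Hom.comp_apply] at h
  rw [Scheme.hom_inv_apply] at h
  exact h (Set.mem_iInter.1 hs l)

end Groth.Agent.ConsH13
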