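import Groth.Agent.Lib.ConsH13.ApproxOver
import Groth.Agent.Lib.ConsH13.Engine
import Groth.Agent.Lib.FibreTop.Strata
import Groth.Agent.Lib.ConsH13.Limit

/-!
# The relation "geometrically related by a morphism with a given property" is ind-constructible
-/

universe u

open CategoryTheory CategoryTheory.Limits AlgebraicGeometry Topology Opposite
open Groth.Agent.LimH13

set_option linter.style.haveILetI false
set_option backward.isDefEq.respectTransparency false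

namespace Groth.Agent.ConsH13

/-- A property of morphisms of schemes of finite presentation which descends along limits of affine
systems. -/
def Spreads (Q : MorphismProperty Scheme.{u}) : Prop :=
  ∀ {I : Type u} [SmallCategory I] [IsCofiltered I] (D : I ⥤ Scheme.{u}) (c : Cone D) (_ : IsLimit c)
    [∀ (i j : I) (f : i ⟶ j), IsAffineHom (D.map f)] (i₀ : I) [CompactSpace (D.obj i₀)]
    [QuasiSeparatedSpace (D.obj i₀)] {X₀ Y₀ : Scheme.{u}} (f₀ : X₀ ⟶ Y₀) (g₀ : Y₀ ⟶ D.obj i₀)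
    [LocallyOfFinitePresentation g₀] [QuasiCompact g₀] [QuasiSeparated g₀]
    [LocallyOfFinitePresentation (f₀ ≫ g₀)] [QuasiCompact (f₀ ≫ g₀)] [QuasiSeparated (f₀ ≫ g₀)]
    {X Y : Scheme.{u}} (f : X ⟶ Y) (g : Y ⟶ c.pt) (qY : Y ⟶ Y₀) (qX : X ⟶ X₀)
    (_ : IsPullback qY g g₀ (c.π.app i₀)) (_ : IsPullback qX f f₀ qY), Q f →
    ∃ (i : I) (φ : i ⟶ i₀) (Xi Yi : Scheme.{u}) (fi : Xi ⟶ Yi) (gi : Yi ⟶ D.obj i) (pY : Yi ⟶ Y₀)
      (pX : Xi ⟶ X₀), IsPullback pY gi g₀ (D.map φ) ∧ IsPullback pX fi f₀ pY ∧ Q fi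

/-- Geometrically related by a morphism with property `Q`. -/
def pairRel (Q : MorphismProperty Scheme.{u}) ⦃X Y T : Scheme.{u}⦄ (gX : X ⟶ T) (gY : Y ⟶ T) : Prop :=
  ∃ (T' X' Y' : Scheme.{u}) (h : T' ⟶ T) (gX' : X' ⟶ T') (gY' : Y' ⟶ T')
    (eX : X' ⟶ X) (eY : Y' ⟶ Y), IsIntegral T' ∧ Subsingleton ↥T' ∧
      IsPullback eX gX' gX h ∧ IsPullback eY gY' gY h ∧ ∃ g : X' ⟶ Y', g ≫ gY' = gX' ∧ Q g

/-- Base change of a witness along a point of an extension. -/
lemma exists_witness_baseChange (Q : MorphismProperty Scheme.{u}) [Q.IsStableUnderBaseChange]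
    {T₁ T₂ X₁ Y₁ : Scheme.{u}} (a : T₂ ⟶ T₁) {gX₁ : X₁ ⟶ T₁} {gY₁ : Y₁ ⟶ T₁} {g : X₁ ⟶ Y₁}
    (hg : g ≫ gY₁ = gX₁) (hQ : Q g) :
    ∃ g₂ : pullback gX₁ a ⟶ pullback gY₁ a, g₂ ≫ pullback.snd gY₁ a = pullback.snd gX₁ a ∧ Q g₂ := by
  let g₂ : pullback gX₁ a ⟶ pullback gY₁ a :=
    pullback.lift (pullback.fst gX₁ a ≫ g) (pullback.snd gX₁ a)
      (by rw [Category.assoc, hg, pullback.condition])
  have sq : IsPullback (pullback.fst gX₁ a) g₂ g (pullback.fst gY₁ a) := by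
    refine IsPullback.of_bot ?_ (pullback.lift_fst _ _ _).symm (IsPullback.of_hasPullback gY₁ a)
    rw [pullback.lift_snd, hg]
    exact IsPullback.of_hasPullback gX₁ a
  exact ⟨g₂, pullback.lift_snd _ _ _, Q.of_isPullback sq hQ⟩

theorem isFieldStablePair_pairRel (Q : MorphismProperty Scheme.{u}) [Q.IsStableUnderBaseChange] :
    ConsPropPair.IsFieldStablePair (pairRel Q) := by
  intro X X' Y Y' T T' gX gY gX' gY' eX eY h _ _ _ _ _ _ _ _ hX hY
  constructor
  · rintro ⟨T₁, X₁, Y₁, h₁, gX₁, gY₁, eX₁, eY₁, hT₁, hT₁', sX, sY, g, hg, hQ⟩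
    haveI := hT₁
    haveI := hT₁'
    obtain ⟨t₁⟩ := (inferInstance : Nonempty T₁)
    obtain ⟨t'⟩ := (inferInstance : Nonempty T')
    obtain ⟨q, -, -⟩ := Scheme.Pullback.exists_preimage_pullback (f := h₁) (g := h) t₁ t'
      (Subsingleton.elim _ _)
    let T₂ := Spec ((pullback h₁ h).residueField q)
    let a : T₂ ⟶ T₁ := (pullback h₁ h).fromSpecResidueField q ≫ pullback.fst h₁ h
    let b : T₂ ⟶ T' := (pullback h₁ h).fromSpecResidueField q ≫ pullback.snd h₁ h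
    have hab : a ≫ h₁ = b ≫ h := by simp only [a, b, Category.assoc, pullback.condition]
    obtain ⟨g₂, hg₂, hQ₂⟩ := exists_witness_baseChange Q a hg hQ
    have oX : IsPullback (pullback.fst gX₁ a ≫ eX₁) (pullback.snd gX₁ a) gX (b ≫ h) :=
      hab ▸ (IsPullback.of_hasPullback gX₁ a).paste_horiz sX
    have oY : IsPullback (pullback.fst gY₁ a ≫ eY₁) (pullback.snd gY₁ a) gY (b ≫ h) :=
      hab ▸ (IsPullback.of_hasPullback gY₁ a).paste_horiz sY
    have wX : (pullback.fst gX₁ a ≫ eX₁) ≫ gX = (pullback.snd gX₁ a ≫ b) ≫ h := by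
      rw [oX.w]; simp only [Category.assoc]
    have wY : (pullback.fst gY₁ a ≫ eY₁) ≫ gY = (pullback.snd gY₁ a ≫ b) ≫ h := by
      rw [oY.w]; simp only [Category.assoc]
    exact ⟨T₂, _, _, b, _, _, hX.lift _ _ wX, hY.lift _ _ wY, inferInstance,
      (inferInstanceAs (Subsingleton (PrimeSpectrum _))),
      IsPullback.of_right (by rw [hX.lift_fst]; exact oX) (hX.lift_snd _ _ _) hX,
      IsPullback.of_right (by rw [hY.lift_fst]; exact oY) (hY.lift_snd _ _ _) hY, g₂, hg₂, hQ₂⟩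
  · rintro ⟨T₁, X₁, Y₁, h₁, gX₁, gY₁, eX₁, eY₁, hT₁, hT₁', sX, sY, g, hg, hQ⟩
    exact ⟨T₁, X₁, Y₁, h₁ ≫ h, gX₁, gY₁, eX₁ ≫ eX, eY₁ ≫ eY, hT₁, hT₁', sX.paste_horiz hX,
      sY.paste_horiz hY, g, hg, hQ⟩

/-- A witness over a field spectrum. -/
lemma exists_witness_spec (Q : MorphismProperty Scheme.{u}) [Q.IsStableUnderBaseChange]
    {X Y T : Scheme.{u}} {gX : X ⟶ T} {gY : Y ⟶ T} (hP : pairRel Q gX gY) :
    ∃ (K : CommRingCat.{u}) (_ : IsField K) (h : Spec K ⟶ T) (X' Y' : Scheme.{u}) (gX' : X' ⟶ Spec K)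
      (gY' : Y' ⟶ Spec K) (eX : X' ⟶ X) (eY : Y' ⟶ Y),
      IsPullback eX gX' gX h ∧ IsPullback eY gY' gY h ∧ ∃ g : X' ⟶ Y', g ≫ gY' = gX' ∧ Q g := by
  obtain ⟨T₁, X₁, Y₁, h₁, gX₁, gY₁, eX₁, eY₁, hT₁, hT₁', sX, sY, g, hg, hQ⟩ := hP
  haveI := hT₁
  obtain ⟨t₁⟩ := (inferInstance : Nonempty T₁)
  obtain ⟨g₂, hg₂, hQ₂⟩ := exists_witness_baseChange Q (T₁.fromSpecResidueField t₁) hg hQ
  exact ⟨T₁.residueField t₁, Field.toIsField _, T₁.fromSpecResidueField t₁ ≫ h₁, _, _, _, _, _, _,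
    (IsPullback.of_hasPullback gX₁ _).paste_horiz sX, (IsPullback.of_hasPullback gY₁ _).paste_horiz sY,
    g₂, hg₂, hQ₂⟩

theorem isIndConsPair_pairRel (Q : MorphismProperty Scheme.{u}) [Q.IsStableUnderBaseChange]
    (hQ : Spreads Q) : ConsPropPair.IsIndConsPair (pairRel Q) := by
  refine ⟨isFieldStablePair_pairRel Q, fun X Y S u v _ _ _ _ _ _ hη => ?_⟩
  obtain ⟨K, hK, h, X₁, Y₁, gX₁, gY₁, eX₁, eY₁, sX, sY, g, hg, hg'⟩ :=
    exists_witness_spec Q (T := Spec (S.residueField (genericPoint S))) hη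
  letI : Field K := hK.toField
  obtain ⟨U, hU, hηU, -⟩ :=
    exists_isAffineOpen_mem_and_subset (X := S) (x := genericPoint S) (U := ⊤) trivial
  haveI : Nonempty U := ⟨⟨_, hηU⟩⟩
  let A : CommRingCat.{u} := Γ(S, U)
  let σ : Spec A ⟶ S := hU.fromSpec
  haveI : IsOpenImmersion σ := hU.isOpenImmersion_fromSpec
  haveI : IsNoetherianRing A := IsLocallyNoetherian.component_noetherian ⟨U, hU⟩
  haveI : IsDomain A := inferInstanceAs (IsDomain Γ(S, U))
  let k := h ≫ S.fromSpecResidueField (genericPoint S)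
  have hk : ∀ z, k z = genericPoint S := fun z => by
    rw [Scheme.Hom.comp_apply, Scheme.fromSpecResidueField_apply]
  have hkσ : Set.range k ⊆ Set.range σ := by
    rintro _ ⟨z, rfl⟩
    rw [hk z, hU.range_fromSpec]
    exact hηU
  let a : Spec K ⟶ Spec A := IsOpenImmersion.lift σ k hkσ
  have haσ : a ≫ σ = k := IsOpenImmersion.lift_fac _ _ _
  obtain ⟨θ, hθ⟩ := Spec.map_surjective a
  letI : Algebra A K := θ.hom.toAlgebra
  have hinj : Function.Injective θ.hom := (RingHom.injective_iff_ker_eq_bot θ.hom).2 <| by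
    haveI : IrreducibleSpace (Spec A) := inferInstance
    have h1 : a (⊥ : PrimeSpectrum K) = genericPoint (Spec A) :=
      σ.isOpenEmbedding.injective (by
        rw [← Scheme.Hom.comp_apply, haσ, hk, genericPoint_eq_of_isOpenImmersion σ])
    rw [genericPoint_eq_bot_of_affine, ← hθ] at h1
    have h2 := congrArg PrimeSpectrum.asIdeal h1
    simpa [RingHom.ker, Spec.map_apply] using h2
  let c := Over.approxCone A K
  have hc : IsLimit c := Over.isLimitApproxCone A K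
  let D := Over.approxDiagram A K
  let δ : ∀ i, D.obj i ⟶ S := fun i =>
    Spec.map (CommRingCat.ofHom (algebraMap A i.unop.1)) ≫ σ
  have hδ : ∀ i, c.π.app i ≫ δ i = k := fun i => by
    show Spec.map _ ≫ Spec.map _ ≫ σ = k
    rw [← haσ, ← hθ, ← Category.assoc, ← Spec.map_comp]
    rfl
  have hφδ : ∀ {i j} (φ : i ⟶ j), D.map φ ≫ δ j = δ i := fun {i j} φ => by
    show Spec.map _ ≫ Spec.map _ ≫ σ = Spec.map _ ≫ σ
    rw [← Category.assoc, ← Spec.map_comp]
    rfl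
  obtain ⟨i₀⟩ := IsCofiltered.nonempty (C := (Over.FGSub A K)ᵒᵖ)
  haveI : LocallyOfFinitePresentation (pullback.snd u (δ i₀)) := inferInstance
  haveI : LocallyOfFinitePresentation (pullback.snd v (δ i₀)) := inferInstance
  haveI : IsLocallyNoetherian (pullback u (δ i₀)) :=
    LocallyOfFiniteType.isLocallyNoetherian (pullback.snd u (δ i₀))
  haveI : IsLocallyNoetherian (pullback v (δ i₀)) :=
    LocallyOfFiniteType.isLocallyNoetherian (pullback.snd v (δ i₀))
  haveI : CompactSpace ↥(pullback u (δ i₀)) :=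
    QuasiCompact.compactSpace_of_compactSpace (pullback.snd u (δ i₀))
  have oX : IsPullback (eX₁ ≫ u.fiberι _) gX₁ u (c.π.app i₀ ≫ δ i₀) := by
    rw [hδ]; exact sX.paste_horiz (IsPullback.of_hasPullback _ _)
  have oY : IsPullback (eY₁ ≫ v.fiberι _) gY₁ v (c.π.app i₀ ≫ δ i₀) := by
    rw [hδ]; exact sY.paste_horiz (IsPullback.of_hasPullback _ _)
  let qX : X₁ ⟶ pullback u (δ i₀) := pullback.lift (eX₁ ≫ u.fiberι _) (gX₁ ≫ c.π.app i₀)
    (oX.w.trans (Category.assoc _ _ _).symm)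
  let qY : Y₁ ⟶ pullback v (δ i₀) := pullback.lift (eY₁ ≫ v.fiberι _) (gY₁ ≫ c.π.app i₀)
    (oY.w.trans (Category.assoc _ _ _).symm)
  have hqX : IsPullback qX gX₁ (pullback.snd u (δ i₀)) (c.π.app i₀) :=
    IsPullback.of_right (by rw [pullback.lift_fst]; exact oX) (pullback.lift_snd _ _ _)
      (IsPullback.of_hasPullback u (δ i₀))
  have hqY : IsPullback qY gY₁ (pullback.snd v (δ i₀)) (c.π.app i₀) :=
    IsPullback.of_right (by rw [pullback.lift_fst]; exact oY) (pullback.lift_snd _ _ _)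
      (IsPullback.of_hasPullback v (δ i₀))
  obtain ⟨j, φ, fj, qXj, qYj, e1, e2, e3, e4, e5, e6⟩ :=
    exists_hom_descend hc i₀ (pullback.snd u (δ i₀)) (pullback.snd v (δ i₀)) qX gX₁ hqX qY gY₁ hqY g hg
  have sqX : IsPullback qXj gX₁ (pullback.snd (pullback.snd u (δ i₀)) (D.map φ)) (c.π.app j) :=
    IsPullback.of_right (by rw [e2, c.w]; exact hqX) e3 (IsPullback.of_hasPullback _ _)
  have sqY : IsPullback qYj gY₁ (pullback.snd (pullback.snd v (δ i₀)) (D.map φ)) (c.π.app j) :=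
    IsPullback.of_right (by rw [e4, c.w]; exact hqY) e5 (IsPullback.of_hasPullback _ _)
  have sqg : IsPullback qXj g fj qYj := IsPullback.of_bot (by rw [e1, hg]; exact sqX) e6 sqY
  haveI : LocallyOfFinitePresentation (fj ≫ pullback.snd (pullback.snd v (δ i₀)) (D.map φ)) := by
    rw [e1]; infer_instance
  haveI : QuasiCompact (fj ≫ pullback.snd (pullback.snd v (δ i₀)) (D.map φ)) := by
    rw [e1]; infer_instance
  haveI : QuasiSeparated (fj ≫ pullback.snd (pullback.snd v (δ i₀)) (D.map φ)) := by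
    rw [e1]; infer_instance
  obtain ⟨i, ψ, Xi, Yi, fi, gi, pY, pX, hYi, hXi, hQi⟩ :=
    hQ D c hc j fj (pullback.snd (pullback.snd v (δ i₀)) (D.map φ)) g gY₁ qYj qXj sqY sqg hg'
  have hxX : IsPullback pX (fi ≫ gi) (pullback.snd (pullback.snd u (δ i₀)) (D.map φ)) (D.map ψ) := by
    rw [← e1]; exact hXi.paste_vert hYi
  have SX := (hxX.paste_horiz
    (IsPullback.of_hasPullback (pullback.snd u (δ i₀)) (D.map φ))).paste_horiz
      (IsPullback.of_hasPullback u (δ i₀))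
  have SY := (hYi.paste_horiz
    (IsPullback.of_hasPullback (pullback.snd v (δ i₀)) (D.map φ))).paste_horiz
      (IsPullback.of_hasPullback v (δ i₀))
  rw [← D.map_comp, hφδ] at SX SY
  obtain ⟨d, hd, hdsub⟩ : ∃ d : PrimeSpectrum.BasicConstructibleSetData A,
      (⊥ : PrimeSpectrum A) ∈ d.toSet ∧
        d.toSet ⊆ Set.range (Spec.map (CommRingCat.ofHom (algebraMap A i.unop.1))) := by
    haveI : Algebra.FiniteType A i.unop.1 := (Subalgebra.fg_iff_finiteType _).1 i.unop.2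
    haveI : Algebra.FinitePresentation A i.unop.1 := Algebra.FinitePresentation.of_finiteType.1 ‹_›
    have hC := PrimeSpectrum.isConstructible_comap_image
      (RingHom.finitePresentation_algebraMap.2 ‹Algebra.FinitePresentation A i.unop.1›)
      (IsConstructible.univ (X := PrimeSpectrum i.unop.1))
    rw [Set.image_univ] at hC
    refine exists_basic_subset hC ⟨⊥, PrimeSpectrum.ext ?_⟩
    show (⊥ : Ideal i.unop.1).comap (algebraMap A i.unop.1) = ⊥
    exact Ideal.comap_bot_of_injective _ fun x y hxy => hinj (congrArg Subtype.val hxy)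
  refine ⟨σ (⊥ : PrimeSpectrum A), interior_maximal
    (t := σ '' (PrimeSpectrum.basicOpen d.f : Set (PrimeSpectrum A))) ?_
    (σ.isOpenEmbedding.isOpenMap _ (PrimeSpectrum.basicOpen d.f).2) ⟨(⊥ : PrimeSpectrum A), ?_, rfl⟩⟩
  rotate_left
  · exact fun h => hd.2 ((PrimeSpectrum.mem_zeroLocus _ _).2 (Set.singleton_subset_iff.2 h))
  rintro _ ⟨p, hp, rfl⟩
  have hp' : p ∈ d.toSet := by
    refine ⟨?_, fun h => hp ((PrimeSpectrum.mem_zeroLocus _ _).1 h rfl)⟩
    rw [PrimeSpectrum.mem_zeroLocus]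
    exact fun x hx => (bot_le : ⊥ ≤ p.asIdeal) (by simpa using hd.1 hx)
  obtain ⟨b, hb⟩ := hdsub hp'
  have hb' : δ i b = σ p := by rw [← hb]; rfl
  rw [← hb']
  show pairRel Q (u.fiberToSpecResidueField (δ i b)) (v.fiberToSpecResidueField (δ i b))
  exact ⟨Spec ((D.obj i).residueField b), (fi ≫ gi).fiber b, gi.fiber b,
    Spec.map ((δ i).residueFieldMap b), _, _, _, _, inferInstance,
    (inferInstanceAs (Subsingleton (PrimeSpectrum _))),
    isPullback_fiberToSpecResidueField_of_isPullback SX b,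
    isPullback_fiberToSpecResidueField_of_isPullback SY b,
    MoreMor.fiberMap fi gi b, fiberMap_snd fi gi b, Q.of_isPullback (isPullback_fiberMap fi gi b) hQi⟩

end Groth.Agent.ConsH13
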